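import Groth.Prelude.Def_ActBC
import Groth.Prelude.Def_ChGrp
import Groth.Agent.L27.Torsor.Cov

/-!
# Actions of the base change of a group, in terms of points of the group

For `B : X ⟶ S`, an action of `G ×_S X` on an `X`-scheme `T` is described by `sm a g z = g • z` for
`Z`-points `g` of `G` (with `Z` regarded over `S`) and `z` of `T`.
-/

set_option autoImplicit false
set_option backward.isDefEq.respectTransparency.types false

universe u

open CategoryTheory MonoidalCategory CartesianMonoidalCategory MonObj AlgebraicGeometry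

namespace Groth.L19.Nori

variable {S X : Scheme.{u}} {B : X ⟶ S} {G H : Over S} [GrpObj G] [GrpObj H] {T T' : Over X}

/-- An `X`-scheme regarded as an `S`-scheme through `B`. -/
abbrev mp (B : X ⟶ S) (Z : Over X) : Over S := (Over.map B).obj Z

/-- A morphism of `X`-schemes regarded over `S`. -/
abbrev mpm (B : X ⟶ S) {Z Z' : Over X} (h : Z' ⟶ Z) : mp B Z' ⟶ mp B Z := (Over.map B).map h

/-- The bijection between points of `G` and points of `G ×_S X`. -/
noncomputable abbrev he {Z : Over X} {G : Over S} (g : mp B Z ⟶ G) : Z ⟶ Red.bc B G :=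
  (Over.mapPullbackAdj B).homEquiv Z G g

/-- The inverse bijection. -/
noncomputable abbrev he' {Z : Over X} {G : Over S} (γ : Z ⟶ Red.bc B G) : mp B Z ⟶ G :=
  ((Over.mapPullbackAdj B).homEquiv Z G).symm γ

theorem he_he' {Z : Over X} {G : Over S} (γ : Z ⟶ Red.bc B G) : he (he' γ) = γ :=
  ((Over.mapPullbackAdj B).homEquiv Z G).apply_symm_apply γ

theorem comp_he {Z Z' : Over X} {G : Over S} (h : Z' ⟶ Z) (g : mp B Z ⟶ G) :
    h ≫ he g = he (mpm B h ≫ g) :=
  ((Over.mapPullbackAdj B).homEquiv_naturality_left h g).symm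

theorem he_comp {Z : Over X} {G G' : Over S} (g : mp B Z ⟶ G) (φ : G ⟶ G') :
    he (g ≫ φ) = he g ≫ (Over.pullback B).map φ :=
  (Over.mapPullbackAdj B).homEquiv_naturality_right g φ

theorem he_mul {Z : Over X} (g g' : mp B Z ⟶ G) : he (g * g') = he g * he g' :=
  AlgGrp.Action.homEquiv_mul B g g'

theorem he_one {Z : Over X} : he (1 : mp B Z ⟶ G) = 1 := by
  have h := he_mul (B := B) (1 : mp B Z ⟶ G) 1
  rw [_root_.mul_one] at h
  exact mul_left_cancel (h.symm.trans (_root_.mul_one _).symm)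

/-- The action of a point of `G` on a point of `T`. -/
noncomputable def sm (a : AlgGrp.Action (Red.bc B G) T) {Z : Over X} (g : mp B Z ⟶ G) (z : Z ⟶ T) : Z ⟶ T :=
  lift (he g) z ≫ a.act

variable (a : AlgGrp.Action (Red.bc B G) T)

theorem sm_one {Z : Over X} (z : Z ⟶ T) : sm a (1 : mp B Z ⟶ G) z = z := by
  rw [sm, he_one]
  exact AlgGrp.Action.lift_one_act a z

theorem sm_mul {Z : Over X} (g g' : mp B Z ⟶ G) (z : Z ⟶ T) : sm a (g * g') z = sm a g (sm a g' z) := by
  rw [sm, he_mul]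
  exact AlgGrp.Action.lift_mul_act a _ _ _

theorem sm_inv_sm {Z : Over X} (g : mp B Z ⟶ G) (z : Z ⟶ T) : sm a g⁻¹ (sm a g z) = z := by
  rw [← sm_mul, inv_mul_cancel, sm_one]

theorem sm_sm_inv {Z : Over X} (g : mp B Z ⟶ G) (z : Z ⟶ T) : sm a g (sm a g⁻¹ z) = z := by
  rw [← sm_mul, mul_inv_cancel, sm_one]

theorem comp_sm {Z Z' : Over X} (h : Z' ⟶ Z) (g : mp B Z ⟶ G) (z : Z ⟶ T) :
    h ≫ sm a g z = sm a (mpm B h ≫ g) (h ≫ z) := by
  rw [sm, sm, comp_lift_assoc, comp_he]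

theorem sm_restrict (φ : H ⟶ G) [IsMonHom φ] {Z : Over X} (g : mp B Z ⟶ H) (z : Z ⟶ T) :
    sm (a.restrict ((Over.pullback B).map φ)) g z = sm a (g ≫ φ) z := by
  rw [sm, sm, AlgGrp.Action.lift_restrict_act, he_comp]

theorem equivariant_iff {a' : AlgGrp.Action (Red.bc B H) T'} (f : T' ⟶ T) (φ : H ⟶ G) [IsMonHom φ] :
    AlgGrp.Action.IsEquivariant a' (a.restrict ((Over.pullback B).map φ)) f ↔
      ∀ (Z : Over X) (h : mp B Z ⟶ H) (z : Z ⟶ T'), sm a' h z ≫ f = sm a (h ≫ φ) (z ≫ f) := by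
  constructor
  · intro e Z h z
    rw [← sm_restrict, sm, sm, Category.assoc, e, lift_whiskerLeft_assoc]
  · intro e
    apply AlgGrp.Action.hom_ext_lift₂
    intro Z γ z
    rw [← he_he' γ, ← Category.assoc, lift_whiskerLeft_assoc]
    have h := e Z (he' γ) z
    rw [← sm_restrict] at h
    exact h

theorem pushforward_iff {a' : AlgGrp.Action (Red.bc B H) T'} (f : T' ⟶ T) (φ : H ⟶ G) [IsMonHom φ] :
    a'.act ≫ f = lift (fst _ T' ≫ (Over.pullback B).map φ) (snd _ T' ≫ f) ≫ a.act ↔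
      AlgGrp.Action.IsEquivariant a' (a.restrict ((Over.pullback B).map φ)) f := by
  rw [AlgGrp.Action.IsEquivariant, AlgGrp.Action.restrict_act, ← Category.assoc (_ ◁ f)]
  have : lift (fst _ T' ≫ (Over.pullback B).map φ) (snd _ T' ≫ f) =
      (Red.bc B H ◁ f) ≫ ((Over.pullback B).map φ ▷ T) := by
    apply CartesianMonoidalCategory.hom_ext <;> simp
  rw [this]

section Pseudo

variable (h : NonAbH1.IsPseudoTorsorSch a)

include h in
theorem sm_exists {Z : Over X} (z z' : Z ⟶ T) : ∃ g : mp B Z ⟶ G, sm a g z = z' := by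
  obtain ⟨γ, hγ⟩ := Groth.L27.Torsor.exists_act_eq h z z'
  exact ⟨he' γ, by rw [sm, he_he', hγ]⟩

include h in
theorem sm_inj {Z : Over X} {g g' : mp B Z ⟶ G} {z : Z ⟶ T} (e : sm a g z = sm a g' z) : g = g' :=
  ((Over.mapPullbackAdj B).homEquiv Z G).injective (Groth.L27.Torsor.act_injective h e)

end Pseudo

/-- A simply transitive action on points is a pseudo-torsor. -/
theorem pseudo_of_sm (h₁ : ∀ (Z : Over X) (z z' : Z ⟶ T), ∃ g : mp B Z ⟶ G, sm a g z = z')
    (h₂ : ∀ (Z : Over X) (g g' : mp B Z ⟶ G) (z : Z ⟶ T), sm a g z = sm a g' z → g = g') :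
    NonAbH1.IsPseudoTorsorSch a := by
  refine Groth.L27.Torsor.isPseudo_of_points a fun Z z z' => ?_
  obtain ⟨g, hg⟩ := h₁ Z z z'
  refine ⟨he g, hg, fun γ hγ => ?_⟩
  rw [← he_he' γ]
  refine congrArg he (h₂ Z _ _ z ?_)
  rw [hg, sm, he_he', hγ]

/-- Actions from formulas on points. -/
theorem exists_action (f : ∀ (Z : Over X), (mp B Z ⟶ G) → (Z ⟶ T) → (Z ⟶ T))
    (hn : ∀ (Z Z' : Over X) (h : Z' ⟶ Z) g z, h ≫ f Z g z = f Z' (mpm B h ≫ g) (h ≫ z))
    (h1 : ∀ (Z : Over X) z, f Z 1 z = z)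
    (hm : ∀ (Z : Over X) g g' z, f Z (g * g') z = f Z g (f Z g' z)) :
    ∃ a : AlgGrp.Action (Red.bc B G) T, ∀ (Z : Over X) g z, sm a g z = f Z g z := by
  let act : Red.bc B G ⊗ T ⟶ T := f _ (he' (fst _ _)) (snd _ _)
  have key : ∀ (Z : Over X) (γ : Z ⟶ Red.bc B G) (z : Z ⟶ T), lift γ z ≫ act = f Z (he' γ) z := by
    intro Z γ z
    rw [hn]
    congr 1
    · apply ((Over.mapPullbackAdj B).homEquiv Z G).injective
      show he _ = he (he' γ)
      rw [← comp_he, he_he', he_he', lift_fst]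
    · rw [lift_snd]
  have key' : ∀ (Z : Over X) (g : mp B Z ⟶ G) (z : Z ⟶ T), lift (he g) z ≫ act = f Z g z := by
    intro Z g z
    rw [key]
    congr 1
    exact ((Over.mapPullbackAdj B).homEquiv Z G).symm_apply_apply g
  refine ⟨⟨act, ?_, ?_⟩, key'⟩
  · apply AlgGrp.Action.hom_ext_lift₂
    intro Z u z
    rw [lift_whiskerRight_assoc, toUnit_unique u (toUnit Z), ← Hom.one_def, ← he_one, key', h1,
      leftUnitor_hom, lift_snd]
  · apply AlgGrp.Action.hom_ext_lift₃
    intro Z γ γ' z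
    obtain ⟨g, rfl⟩ := ((Over.mapPullbackAdj B).homEquiv Z G).surjective γ
    obtain ⟨g', rfl⟩ := ((Over.mapPullbackAdj B).homEquiv Z G).surjective γ'
    rw [lift_whiskerRight_assoc, ← Hom.mul_def, ← AlgGrp.Action.homEquiv_mul, key',
      lift_lift_associator_hom_assoc, lift_whiskerLeft_assoc, key', key', hm]

end Groth.L19.Nori
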