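import Groth.Agent.L19.Nori.Reduced

/-!
# Functions on a pro-finite group scheme
-/

set_option autoImplicit false
set_option linter.style.haveILetI false
set_option linter.unusedSectionVars false
set_option backward.isDefEq.respectTransparency.types false
set_option backward.isDefEq.respectTransparency false

universe u

open CategoryTheory MonoidalCategory CartesianMonoidalCategory MonObj AlgebraicGeometry

namespace Groth.L19.Nori

theorem appTop_injective_of_ker_bot {X Y : Scheme.{u}} (f : X ⟶ Y) [QuasiCompact f] (h : f.ker = ⊥) :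
    Function.Injective f.appTop := by
  haveI : IsSchemeTheoreticallyDominant f := ⟨h⟩
  exact f.app_injective ⊤

theorem ker_bot_of_appTop_injective {X Y : Scheme.{u}} [IsAffine Y] (f : X ⟶ Y) [QuasiCompact f]
    (h : Function.Injective f.appTop) : f.ker = ⊥ :=
  Scheme.IdealSheafData.ext_of_isAffine
    (by simpa [f.ker_apply ⟨⊤, isAffineOpen_top Y⟩, ← RingHom.injective_iff_ker_eq_bot])

theorem ker_bot_of_faithfullyFlat {X Y : Scheme.{u}} (f : X ⟶ Y) [Flat f] [Surjective f] [QuasiCompact f] :
    f.ker = ⊥ := by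
  haveI : IsIso f.ker.subschemeι := isIso_of_fac f f.ker.subschemeι f.toImage f.toImage_imageι
  rw [← f.ker.ker_subschemeι]
  exact Scheme.Hom.ker_eq_bot_of_isIso _

theorem ker_comp_bot {X Y Z : Scheme.{u}} (f : X ⟶ Y) (g : Y ⟶ Z) (hf : f.ker = ⊥) (hg : g.ker = ⊥) :
    (f ≫ g).ker = ⊥ := by
  rw [Scheme.Hom.ker_comp, hf, Scheme.IdealSheafData.map_bot, hg]

variable {k : Type u} [Field k]

theorem isAffine_of_isFinite (G : Over (Spec (CommRingCat.of k))) [IsFinite G.hom] : IsAffine G.left :=
  isAffine_of_isAffineHom G.hom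


/-- Finitely many functions of a pro-finite group come from one finite stage. -/
theorem exists_stage {πN : Over (Spec (CommRingCat.of k))} [GrpObj πN] (P : NoriFGS.ProFinPres πN)
    (s : Finset Γ(πN.left, ⊤)) :
    letI := P.cat
    ∃ i : P.I, ∀ a ∈ s, ∃ t : Γ((P.D.obj i).left, ⊤), (show πN ⟶ P.D.obj i from P.π.app i).left.appTop t = a := by
  letI := P.cat
  haveI := P.cofiltered
  classical
  induction s using Finset.induction_on with
  | empty => exact ⟨(IsCofiltered.nonempty (C := P.I)).some, by simp⟩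
  | @insert a s _ ih =>
    obtain ⟨i, hi⟩ := ih
    obtain ⟨i', t', ht'⟩ := exists_appTop_eq P a
    have key : ∀ {l l' : P.I} (g : l ⟶ l') (u : Γ((P.D.obj l').left, ⊤)),
        (show πN ⟶ P.D.obj l from P.π.app l).left.appTop ((P.D.map g).left.appTop u) =
          (show πN ⟶ P.D.obj l' from P.π.app l').left.appTop u := by
      intro l l' g u
      rw [← CommRingCat.comp_apply, ← Scheme.Hom.comp_appTop, ← Over.comp_left]
      have hn : (show πN ⟶ P.D.obj l from P.π.app l) ≫ P.D.map g = (show πN ⟶ P.D.obj l' from P.π.app l') := by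
        have h := P.π.naturality g
        simp at h
        exact h.symm
      rw [hn]
    refine ⟨IsCofiltered.min i i', fun b hb => ?_⟩
    rcases Finset.mem_insert.1 hb with rfl | hb
    · exact ⟨(P.D.map (IsCofiltered.minToRight i i')).left.appTop t', by rw [key, ht']⟩
    · obtain ⟨t, ht⟩ := hi b hb
      exact ⟨(P.D.map (IsCofiltered.minToLeft i i')).left.appTop t, by rw [key, ht]⟩

/-- Finitely many functions on a pro-finite group, together with a homomorphism to a finite group, come
from a finite quotient through which the homomorphism factors. -/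
theorem exists_quotient_over {πN : Over (Spec (CommRingCat.of k))} [GrpObj πN] (hπ : NoriFGS.IsProFinite πN)
    {G : Over (Spec (CommRingCat.of k))} [GrpObj G] [IsFinite G.hom] (ψ : πN ⟶ G) [IsMonHom ψ]
    (s : Finset Γ(πN.left, ⊤)) :
    ∃ (H : Over (Spec (CommRingCat.of k))) (_ : GrpObj H) (_ : IsFinite H.hom) (χ : πN ⟶ H) (_ : IsMonHom χ)
      (q : H ⟶ G) (_ : IsMonHom q),
      χ.left.ker = ⊥ ∧ χ ≫ q = ψ ∧ ∀ a ∈ s, ∃ t : Γ(H.left, ⊤), χ.left.appTop t = a := by
  haveI := isAffine_of_isProFinite hπ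
  obtain ⟨P⟩ := hπ
  letI := P.cat
  obtain ⟨i, hi⟩ := exists_stage P s
  letI := P.grp i
  haveI := P.finite i
  let πi : πN ⟶ P.D.obj i := P.π.app i
  haveI : IsMonHom πi := P.isMonHom_π i
  haveI : IsFinite (P.D.obj i ⊗ G).hom := by
    show IsFinite (Limits.pullback.fst (P.D.obj i).hom G.hom ≫ (P.D.obj i).hom)
    infer_instance
  haveI : IsMonHom (lift πi ψ) :=
    { one_hom := by apply CartesianMonoidalCategory.hom_ext <;> simp
      mul_hom := by apply CartesianMonoidalCategory.hom_ext <;> simp }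
  obtain ⟨H, _, _, j, _, _, χ, _, hfac, hker⟩ := exists_factor (lift πi ψ)
  haveI : IsMonHom (fst (P.D.obj i) G) :=
    { one_hom := by simp
      mul_hom := by simp }
  haveI : IsMonHom (snd (P.D.obj i) G) :=
    { one_hom := by simp
      mul_hom := by simp }
  refine ⟨H, inferInstance, inferInstance, χ, inferInstance, j ≫ snd _ _, inferInstance, hker,
    by rw [← Category.assoc, hfac, lift_snd], fun a ha => ?_⟩
  obtain ⟨t, ht⟩ := hi a ha
  refine ⟨(j ≫ fst _ _).left.appTop t, ?_⟩
  rw [← CommRingCat.comp_apply, ← Scheme.Hom.comp_appTop, ← Over.comp_left, ← Category.assoc, hfac, lift_fst]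
  exact ht

/-- Finitely many functions on a pro-finite group come from a finite quotient. -/
theorem exists_quotient {πN : Over (Spec (CommRingCat.of k))} [GrpObj πN] (hπ : NoriFGS.IsProFinite πN)
    (s : Finset Γ(πN.left, ⊤)) :
    ∃ (H : Over (Spec (CommRingCat.of k))) (_ : GrpObj H) (_ : IsFinite H.hom) (χ : πN ⟶ H) (_ : IsMonHom χ),
      χ.left.ker = ⊥ ∧ ∀ a ∈ s, ∃ t : Γ(H.left, ⊤), χ.left.appTop t = a := by
  haveI : IsFinite (𝟙_ (Over (Spec (CommRingCat.of k)))).hom := by
    show IsFinite (𝟙 _)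
    infer_instance
  haveI : IsMonHom (toUnit πN) :=
    { one_hom := toUnit_unique _ _
      mul_hom := toUnit_unique _ _ }
  obtain ⟨H, g, hf, χ, hχ, _, _, hker, -, hs⟩ := exists_quotient_over hπ (toUnit πN) s
  exact ⟨H, g, hf, χ, hχ, hker, hs⟩

end Groth.L19.Nori
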