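import Groth.Agent.L19.Nori.Act
import Groth.Prelude.Def_NoriFGS
import Groth.Agent.S3024
import Groth.Agent.S6003
import Groth.Agent.S6004
import Groth.Agent.S14540
import Groth.Agent.S14541
import Groth.Agent.L25.DescHom
import Groth.Agent.L25.Actions
import Groth.Agent.L23.Descent
import Mathlib.CategoryTheory.Limits.Preserves.Basic
import Mathlib.AlgebraicGeometry.AffineTransitionLimit
import Mathlib.AlgebraicGeometry.Morphisms.Finite
import Mathlib.AlgebraicGeometry.Morphisms.Affine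

/-!
# Pointed finite torsors and homomorphisms out of a fundamental group scheme
-/

set_option autoImplicit false
set_option linter.style.haveILetI false
set_option linter.unusedSectionVars false
set_option backward.isDefEq.respectTransparency.types false
set_option backward.isDefEq.respectTransparency false

universe u

open CategoryTheory MonoidalCategory CartesianMonoidalCategory MonObj AlgebraicGeometry

namespace Groth.L19.Nori

open CategoryTheory.Limits (IsLimit Cone)

variable {k : Type u} [Field k]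

theorem flat_over_field (G : Over (Spec (CommRingCat.of k))) : Flat G.hom := inferInstance

section ProFinite

variable {πN : Over (Spec (CommRingCat.of k))} [GrpObj πN]

/-- The limit cone of a pro-finite presentation, in schemes. -/
theorem exists_isLimit_left (P : NoriFGS.ProFinPres πN) :
    letI := P.cat
    Nonempty (IsLimit ((Over.forget _).mapCone (Cone.mk πN P.π))) := by
  letI := P.cat
  haveI := P.cofiltered
  exact ⟨Limits.isLimitOfPreserves _ P.isLimit⟩

theorem isAffine_of_isProFinite (h : NoriFGS.IsProFinite πN) : IsAffine πN.left := by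
  obtain ⟨P⟩ := h
  letI := P.cat
  haveI := P.cofiltered
  obtain ⟨hl⟩ := exists_isLimit_left P
  haveI : ∀ i, IsAffine ((P.D ⋙ Over.forget _).obj i) := fun i => by
    haveI := P.finite i
    exact isAffine_of_isAffineHom (P.D.obj i).hom
  exact Scheme.isAffine_of_isLimit _ hl

/-- Every function on a pro-finite group comes from a finite stage. -/
theorem exists_appTop_eq (P : NoriFGS.ProFinPres πN) (s : Γ(πN.left, ⊤)) :
    letI := P.cat
    ∃ (i : P.I) (t : Γ((P.D.obj i).left, ⊤)),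
      (show πN ⟶ P.D.obj i from P.π.app i).left.appTop t = s := by
  letI := P.cat
  haveI := P.cofiltered
  obtain ⟨hl⟩ := exists_isLimit_left P
  haveI : ∀ i, IsAffine ((P.D ⋙ Over.forget _).obj i) := fun i => by
    haveI := P.finite i
    exact isAffine_of_isAffineHom (P.D.obj i).hom
  exact exists_appTop_π_eq_of_isAffine_of_isLimit _ _ hl s

end ProFinite

/-- A homomorphism to a finite group scheme factors as a schematically dominant one followed by a closed
subgroup. -/
theorem exists_factor {πN G : Over (Spec (CommRingCat.of k))} [GrpObj πN] [IsAffine πN.left] [GrpObj G]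
    [IsFinite G.hom] (χ : πN ⟶ G) [IsMonHom χ] :
    ∃ (H : Over (Spec (CommRingCat.of k))) (_ : GrpObj H) (_ : IsFinite H.hom) (i : H ⟶ G) (_ : IsMonHom i)
      (_ : IsClosedImmersion i.left) (χ' : πN ⟶ H) (_ : IsMonHom χ'),
      χ' ≫ i = χ ∧ χ'.left.ker = ⊥ := by
  haveI : IsAffineHom πN.hom := inferInstance
  haveI : QuasiCompact χ.left := by
    haveI : QuasiCompact (χ.left ≫ G.hom) := by rw [Over.w]; infer_instance
    exact QuasiCompact.of_comp χ.left G.hom
  obtain ⟨H, _, i, χ', hi, hχ', hfac, hcl, hker, -, -⟩ := Groth.Agent.S3024.result k πN G χ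
  haveI := hcl
  haveI : IsFinite H.hom := by rw [← Over.w i]; infer_instance
  exact ⟨H, inferInstance, this, i, hi, hcl, χ', hχ', hfac, hker⟩

variable {X : Scheme.{u}} [X.Over (Spec (CommRingCat.of k))]

local notation "𝐁" => (X ↘ Spec (CommRingCat.of k))

theorem torsor_props {G : Over (Spec (CommRingCat.of k))} [GrpObj G] [IsAffineHom G.hom] {T : Over X}
    {a : AlgGrp.Action (Red.bc 𝐁 G) T} (h : NonAbH1.IsTorsorFor Scheme.fpqcPrecoverage a) :
    IsAffineHom T.hom ∧ Flat T.hom ∧ Surjective T.hom ∧ QuasiCompact T.hom := by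
  haveI : Flat (Red.bc 𝐁 G).hom := MorphismProperty.pullback_snd (P := @Flat) _ _ (flat_over_field G)
  haveI : IsAffineHom (Red.bc 𝐁 G).hom := MorphismProperty.pullback_snd (P := @IsAffineHom) _ _ inferInstance
  obtain ⟨h1, h2⟩ := Groth.Agent.S6004.result (Red.bc 𝐁 G) T a h
  obtain ⟨-, h3, -, h4⟩ := (Groth.Agent.S6003.result (Red.bc 𝐁 G) T a).1 h
  exact ⟨h1, h2, h3, h4⟩

theorem cov_toUnit {G : Over (Spec (CommRingCat.of k))} [GrpObj G] {T : Over X}
    {a : AlgGrp.Action (Red.bc 𝐁 G) T} (h : NonAbH1.IsTorsorFor Scheme.fpqcPrecoverage a) :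
    Groth.L27.Torsor.Cov (toUnit T) :=
  Groth.L27.Torsor.cov_toUnit h.2

variable {x : Spec (CommRingCat.of k) ⟶ X} {πN : Over (Spec (CommRingCat.of k))} [GrpObj πN] {P : Over X}
  {a : AlgGrp.Action (Red.bc (X ↘ Spec (CommRingCat.of k)) πN) P} {p : Spec (CommRingCat.of k) ⟶ P.left}

/-- Every homomorphism to a finite group gives a pointed torsor. -/
theorem exists_push (hP : NoriFGS.IsFGS x πN a p) {G : Over (Spec (CommRingCat.of k))} [GrpObj G] [IsFinite G.hom]
    (χ : πN ⟶ G) [IsMonHom χ] :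
    ∃ (T : Over X) (b : AlgGrp.Action (Red.bc 𝐁 G) T) (t : Spec (CommRingCat.of k) ⟶ T.left) (f : P ⟶ T),
      NonAbH1.IsTorsorFor Scheme.fpqcPrecoverage b ∧ t ≫ T.hom = x ∧ NoriFGS.IsPtTorsorHom a p b t χ f := by
  haveI := isAffine_of_isProFinite hP.1
  haveI : IsAffineHom πN.hom := inferInstance
  haveI : IsAffineHom (Red.bc 𝐁 πN).hom := MorphismProperty.pullback_snd (P := @IsAffineHom) _ _ inferInstance
  haveI : IsAffineHom (Red.bc 𝐁 G).hom := MorphismProperty.pullback_snd (P := @IsAffineHom) _ _ inferInstance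
  obtain ⟨P', f, hf⟩ := Groth.Agent.S14540.result ((Over.pullback 𝐁).map χ) ⟨P, a, hP.2.1⟩
  exact ⟨P'.X, P'.act, p ≫ f.left, f, P'.isTorsor, by rw [Category.assoc, Over.w f, hP.2.2.1],
    (pushforward_iff P'.act f χ).1 hf, rfl⟩

theorem isPtTorsorHom_comp {G G' : Over (Spec (CommRingCat.of k))} [GrpObj G] [GrpObj G'] {T T' : Over X}
    {b : AlgGrp.Action (Red.bc 𝐁 G) T} {t : Spec (CommRingCat.of k) ⟶ T.left}
    {b' : AlgGrp.Action (Red.bc 𝐁 G') T'} {t' : Spec (CommRingCat.of k) ⟶ T'.left}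
    {χ : πN ⟶ G} [IsMonHom χ] {f : P ⟶ T} (h : NoriFGS.IsPtTorsorHom a p b t χ f) {φ : G ⟶ G'} [IsMonHom φ]
    {g : T ⟶ T'} (h' : NoriFGS.IsPtTorsorHom b t b' t' φ g) :
    NoriFGS.IsPtTorsorHom a p b' t' (χ ≫ φ) (f ≫ g) := by
  refine ⟨(equivariant_iff b' (f ≫ g) (χ ≫ φ)).2 fun Z γ z => ?_, ?_⟩
  · rw [← Category.assoc, (equivariant_iff b f χ).1 h.1, (equivariant_iff b' g φ).1 h'.1, Category.assoc,
      Category.assoc]
  · rw [Over.comp_left, ← Category.assoc, h.2, h'.2]

/-- A morphism of torsors along a closed subgroup is a closed immersion. -/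
theorem isClosedImmersion_of_equivariant {G H : Over (Spec (CommRingCat.of k))} [GrpObj G] [GrpObj H]
    [IsAffineHom H.hom] (i : H ⟶ G) [IsMonHom i] [IsClosedImmersion i.left] {T T' : Over X}
    {b : AlgGrp.Action (Red.bc 𝐁 G) T} {b' : AlgGrp.Action (Red.bc 𝐁 H) T'}
    (hb : NonAbH1.IsTorsorFor Scheme.fpqcPrecoverage b) (hb' : NonAbH1.IsTorsorFor Scheme.fpqcPrecoverage b')
    (r : T' ⟶ T) (hr : AlgGrp.Action.IsEquivariant b' (b.restrict ((Over.pullback 𝐁).map i)) r) :
    IsClosedImmersion r.left := by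
  have hr' := (equivariant_iff b r i).1 hr
  -- the shear maps over `T'`
  let sH : Red.bc 𝐁 H ⊗ T' ⟶ T' ⊗ T' := lift b'.act (snd _ _)
  haveI : IsIso sH := hb'.1
  let sG : Red.bc 𝐁 G ⊗ T' ⟶ T ⊗ T' := lift ((Red.bc 𝐁 G ◁ r) ≫ b.act) (snd _ _)
  haveI : IsIso sG := by
    obtain ⟨g, hg⟩ := sm_exists b hb.1 (snd T T' ≫ r) (fst T T')
    refine ⟨lift (he g) (snd T T'), ?_, ?_⟩
    · apply CartesianMonoidalCategory.hom_ext
      · rw [Category.assoc, lift_fst, Category.id_comp, comp_he, ← he_he' (fst (Red.bc 𝐁 G) T')]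
        refine congrArg he (sm_inj b hb.1 (z := snd (Red.bc 𝐁 G) T' ≫ r) ?_)
        have := comp_sm b sG g (snd T T' ≫ r)
        rw [hg, lift_fst, lift_snd_assoc] at this
        rw [← this, sm, he_he']
        congr 1
      · simp [sG]
    · apply CartesianMonoidalCategory.hom_ext
      · rw [Category.assoc, lift_fst, lift_whiskerLeft_assoc, Category.id_comp]
        exact hg
      · simp [sG]
  have hcomm : ((Over.pullback 𝐁).map i ▷ T') ≫ sG = sH ≫ (r ▷ T') := by
    apply CartesianMonoidalCategory.hom_ext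
    · rw [Category.assoc, lift_fst, Category.assoc, whiskerRight_fst, lift_fst_assoc, hr,
        AlgGrp.Action.restrict_act, whisker_exchange_assoc]
    · simp [sG, sH]
  haveI : IsClosedImmersion ((Over.pullback 𝐁).map i ▷ T').left :=
    Groth.L25.Actions.of_whiskerRight (@IsClosedImmersion) _ _
      (MorphismProperty.overPullbackMap (P := @IsClosedImmersion) 𝐁 i ‹IsClosedImmersion i.left›)
  have hrw : (r ▷ T') = inv sH ≫ ((Over.pullback 𝐁).map i ▷ T') ≫ sG := by
    rw [hcomm, IsIso.inv_hom_id_assoc]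
  haveI : IsClosedImmersion (r ▷ T').left := by
    rw [hrw, Over.comp_left, Over.comp_left]
    infer_instance
  obtain ⟨-, hfl, hsurj, hqc⟩ := torsor_props hb'
  have sq := Groth.L25.Actions.isPullback_whiskerRight_left r T'
  have sq' := Groth.L25.Actions.isPullback_snd T T'
  exact MorphismProperty.of_isPullback_of_descendsAlong (P := @IsClosedImmersion)
    (Q := @Surjective ⊓ @Flat ⊓ @QuasiCompact) sq
    ⟨⟨MorphismProperty.of_isPullback (P := @Surjective) sq'.flip hsurj,
      MorphismProperty.of_isPullback (P := @Flat) sq'.flip hfl⟩,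
      MorphismProperty.of_isPullback (P := @QuasiCompact) sq'.flip hqc⟩ ‹_›

/-- The image of a homomorphism to a finite group carries a pointed torsor, mapping to the pushforward by a
closed immersion. -/
theorem exists_reduction (hP : NoriFGS.IsFGS x πN a p) {G H : Over (Spec (CommRingCat.of k))} [GrpObj G]
    [GrpObj H] [IsFinite G.hom] [IsFinite H.hom] (χ' : πN ⟶ H) [IsMonHom χ'] (i : H ⟶ G) [IsMonHom i]
    [IsClosedImmersion i.left] {T : Over X} {b : AlgGrp.Action (Red.bc 𝐁 G) T}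
    {t : Spec (CommRingCat.of k) ⟶ T.left} (hb : NonAbH1.IsTorsorFor Scheme.fpqcPrecoverage b)
    {f : P ⟶ T} (hf : NoriFGS.IsPtTorsorHom a p b t (χ' ≫ i) f) :
    ∃ (T' : Over X) (b' : AlgGrp.Action (Red.bc 𝐁 H) T') (t' : Spec (CommRingCat.of k) ⟶ T'.left) (f' : P ⟶ T')
      (r : T' ⟶ T), NonAbH1.IsTorsorFor Scheme.fpqcPrecoverage b' ∧ t' ≫ T'.hom = x ∧
      NoriFGS.IsPtTorsorHom a p b' t' χ' f' ∧ NoriFGS.IsPtTorsorHom b' t' b t i r ∧ IsClosedImmersion r.left ∧
      f' ≫ r = f := by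
  haveI := isAffine_of_isProFinite hP.1
  haveI : IsAffineHom πN.hom := inferInstance
  haveI : IsAffineHom (Red.bc 𝐁 πN).hom := MorphismProperty.pullback_snd (P := @IsAffineHom) _ _ inferInstance
  haveI : IsAffineHom (Red.bc 𝐁 G).hom := MorphismProperty.pullback_snd (P := @IsAffineHom) _ _ inferInstance
  haveI : IsAffineHom (Red.bc 𝐁 H).hom := MorphismProperty.pullback_snd (P := @IsAffineHom) _ _ inferInstance
  obtain ⟨T', b', t', f', hb', ht', hf'⟩ := exists_push hP χ'
  obtain ⟨r, ⟨hr, hfr⟩, -⟩ := Groth.Agent.S14541.result ((Over.pullback 𝐁).map χ') ((Over.pullback 𝐁).map i)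
    a b' b hP.2.1 hb' hb f' ((pushforward_iff b' f' χ').2 hf'.1) f
    (by rw [← Functor.map_comp]; exact (pushforward_iff b f (χ' ≫ i)).2 hf.1)
  have hr' := (pushforward_iff b r i).1 hr
  refine ⟨T', b', t', f', r, hb', ht', hf', ⟨hr', ?_⟩, isClosedImmersion_of_equivariant i hb hb' r hr', hfr⟩
  rw [← hf'.2, Category.assoc, ← Over.comp_left, hfr, hf.2]

theorem eq_toUnit_of_map {Z : Over X} {x : Spec (CommRingCat.of k) ⟶ X} (hx : x ≫ 𝐁 = 𝟙 _)
    (f : mp 𝐁 Z ⟶ 𝟙_ (Over (Spec (CommRingCat.of k)))) : f = toUnit _ := toUnit_unique _ _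

/-- The classifying homomorphism of a Nori-reduced pointed torsor is schematically dominant. -/
theorem ker_bot_of_isNoriReduced (hx : x ≫ 𝐁 = 𝟙 _) (hP : NoriFGS.IsFGS x πN a p)
    {G : Over (Spec (CommRingCat.of k))} [GrpObj G] [IsFinite G.hom] {T : Over X}
    {b : AlgGrp.Action (Red.bc 𝐁 G) T} {t : Spec (CommRingCat.of k) ⟶ T.left}
    (hb : NonAbH1.IsTorsorFor Scheme.fpqcPrecoverage b) (hNR : NoriFGS.IsNoriReduced Scheme.fpqcPrecoverage b)
    {χ : πN ⟶ G} [IsMonHom χ] {f : P ⟶ T} (hf : NoriFGS.IsPtTorsorHom a p b t χ f) : χ.left.ker = ⊥ := by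
  haveI := isAffine_of_isProFinite hP.1
  obtain ⟨H, _, _, i, _, _, χ', _, hfac, hker⟩ := exists_factor χ
  subst hfac
  obtain ⟨T', b', t', f', r, hb', ht', hf', hr, hcl, -⟩ := exists_reduction hP χ' i hb hf
  haveI := hcl
  haveI : IsIso r := hNR H i T' r b' hb' hr.1
  suffices IsIso i by
    haveI : IsIso i.left := inferInstanceAs (IsIso ((Over.forget _).map i))
    rw [Over.comp_left, Scheme.Hom.ker_comp, hker]
    simp [Scheme.IdealSheafData.map_bot, i.left.ker_eq_bot_of_isIso]
  haveI : Mono i := Over.mono_of_mono_left i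
  let Z : Over X := Over.mk (G.hom ≫ x)
  let g : mp 𝐁 Z ⟶ G := Over.homMk (𝟙 G.left) (by
    show 𝟙 _ ≫ G.hom = (G.hom ≫ x) ≫ 𝐁
    rw [Category.assoc, hx, Category.id_comp, Category.comp_id])
  let z : Z ⟶ T' := Over.homMk (G.hom ≫ t') (by
    show (G.hom ≫ t') ≫ T'.hom = G.hom ≫ x
    rw [Category.assoc, ht'])
  obtain ⟨h, hh⟩ := sm_exists b' hb'.1 z (sm b g (z ≫ r) ≫ inv r)
  have e : sm b (h ≫ i) (z ≫ r) = sm b g (z ≫ r) := by
    rw [← (equivariant_iff b r i).1 hr.1, hh, Category.assoc, IsIso.inv_hom_id, Category.comp_id]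
  have e' := congrArg CommaMorphism.left (sm_inj b hb.1 e)
  let s : G ⟶ H := Over.homMk h.left (by
    show h.left ≫ H.hom = G.hom
    rw [Over.w h]
    show (G.hom ≫ x) ≫ 𝐁 = G.hom
    rw [Category.assoc, hx, Category.comp_id])
  haveI : IsSplitEpi i := IsSplitEpi.mk' ⟨s, by ext1; exact e'⟩
  exact isIso_of_mono_of_isSplitEpi i

end Groth.L19.Nori
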