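import Groth.Agent.L19.Nori.Orbit
import Groth.Agent.S12837

/-!
# Fibre products of pointed finite torsors over a connected base
-/

set_option autoImplicit false
set_option linter.style.haveILetI false
set_option linter.unusedSectionVars false
set_option backward.isDefEq.respectTransparency.types false
set_option backward.isDefEq.respectTransparency false

universe u

open CategoryTheory MonoidalCategory CartesianMonoidalCategory MonObj AlgebraicGeometry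

namespace Groth.L19.Nori

variable {k : Type u} [Field k] {X : Scheme.{u}} [X.Over (Spec (CommRingCat.of k))]
  {x : Spec (CommRingCat.of k) ⟶ X} {G G₁ G₂ : Over (Spec (CommRingCat.of k))} [GrpObj G] [GrpObj G₁] [GrpObj G₂]
  [IsFinite G.hom] [IsFinite G₁.hom] [IsFinite G₂.hom] {φ₁ : G₁ ⟶ G} {φ₂ : G₂ ⟶ G} [IsMonHom φ₁] [IsMonHom φ₂]
  {T T₁ T₂ : Over X} {a : AlgGrp.Action (Red.bc (X ↘ Spec (CommRingCat.of k)) G) T}
  {a₁ : AlgGrp.Action (Red.bc (X ↘ Spec (CommRingCat.of k)) G₁) T₁}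
  {a₂ : AlgGrp.Action (Red.bc (X ↘ Spec (CommRingCat.of k)) G₂) T₂}
  {t : Spec (CommRingCat.of k) ⟶ T.left} {t₁ : Spec (CommRingCat.of k) ⟶ T₁.left}
  {t₂ : Spec (CommRingCat.of k) ⟶ T₂.left}

local notation "𝐁" => (X ↘ Spec (CommRingCat.of k))

/-- The product of two pointed torsors, the relative position of the two images and the action on it. -/
theorem exists_position (hx : x ≫ 𝐁 = 𝟙 _)
    (hT : NonAbH1.IsTorsorFor Scheme.fpqcPrecoverage a) (hT₁ : NonAbH1.IsTorsorFor Scheme.fpqcPrecoverage a₁)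
    (hT₂ : NonAbH1.IsTorsorFor Scheme.fpqcPrecoverage a₂)
    (ht₁ : t₁ ≫ T₁.hom = x) (ht₂ : t₂ ≫ T₂.hom = x) {f₁ : T₁ ⟶ T} {f₂ : T₂ ⟶ T}
    (hf₁ : AlgGrp.Action.IsEquivariant a₁ (a.restrict ((Over.pullback 𝐁).map φ₁)) f₁)
    (hf₂ : AlgGrp.Action.IsEquivariant a₂ (a.restrict ((Over.pullback 𝐁).map φ₂)) f₂)
    (hft₁ : t₁ ≫ f₁.left = t) (hft₂ : t₂ ≫ f₂.left = t) :
    ∃ (K : Over (Spec (CommRingCat.of k))) (_ : GrpObj K) (_ : IsFinite K.hom)
      (aS : AlgGrp.Action K G) (aW : AlgGrp.Action (Red.bc 𝐁 K) (T₁ ⊗ T₂)) (ψ : mp 𝐁 (T₁ ⊗ T₂) ⟶ G)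
      (w₀ : Spec (CommRingCat.of k) ⟶ (T₁ ⊗ T₂).left),
      NonAbH1.IsTorsorFor Scheme.fpqcPrecoverage aW ∧
      (∀ (Z : Over X) (g : mp 𝐁 Z ⟶ K) (z : Z ⟶ T₁ ⊗ T₂),
        mpm _ (sm aW g z) ≫ ψ = lift g (mpm _ z ≫ ψ) ≫ aS.act) ∧
      w₀ ≫ ψ.left = η[G].left ∧
      ∀ (Z : Over X) (z : Z ⟶ T₁ ⊗ T₂), mpm 𝐁 z ≫ ψ = toUnit _ ≫ η[G] →
        (z ≫ fst _ _) ≫ f₁ = (z ≫ snd _ _) ≫ f₂ := by
  have he₁ := (equivariant_iff a f₁ φ₁).1 hf₁
  have he₂ := (equivariant_iff a f₂ φ₂).1 hf₂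
  let K := G₁ ⊗ G₂
  haveI : IsFinite K.hom := by
    show IsFinite (Limits.pullback.fst G₁.hom G₂.hom ≫ G₁.hom)
    infer_instance
  haveI : IsMonHom (fst G₁ G₂) :=
    { one_hom := by simp
      mul_hom := by simp }
  haveI : IsMonHom (snd G₁ G₂) :=
    { one_hom := by simp
      mul_hom := by simp }
  let act : K ⊗ G ⟶ G := (fst K G ≫ fst G₁ G₂ ≫ φ₁) * snd K G * (fst K G ≫ snd G₁ G₂ ≫ φ₂)⁻¹
  have hact : ∀ (Z : Over (Spec (CommRingCat.of k))) (g : Z ⟶ K) (s : Z ⟶ G), lift g s ≫ act =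
      ((g ≫ fst G₁ G₂) ≫ φ₁) * s * ((g ≫ snd G₁ G₂) ≫ φ₂)⁻¹ := fun Z g s => by
    simp [act, MonObj.comp_mul, GrpObj.comp_inv]
  let aS : AlgGrp.Action K G :=
    { act := act
      one_act := by
        apply AlgGrp.Action.hom_ext_lift₂
        intro Z u z
        rw [lift_whiskerRight_assoc, toUnit_unique u (toUnit Z), ← Hom.one_def, hact, MonObj.one_comp,
          MonObj.one_comp, MonObj.one_comp, MonObj.one_comp, inv_one, _root_.mul_one, _root_.one_mul,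
          leftUnitor_hom, lift_snd]
      mul_act := by
        apply AlgGrp.Action.hom_ext_lift₃
        intro Z g g' z
        rw [lift_whiskerRight_assoc, ← Hom.mul_def, lift_lift_associator_hom_assoc, lift_whiskerLeft_assoc,
          hact, hact, hact, MonObj.mul_comp, MonObj.mul_comp, MonObj.mul_comp, MonObj.mul_comp]
        simp only [mul_inv_rev, _root_.mul_assoc] }
  -- the action on the product
  obtain ⟨aW, haW⟩ := exists_action (B := 𝐁) (G := K) (T := T₁ ⊗ T₂)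
    (fun Z g z => lift (sm a₁ (g ≫ fst G₁ G₂) (z ≫ fst T₁ T₂)) (sm a₂ (g ≫ snd G₁ G₂) (z ≫ snd T₁ T₂)))
    (fun Z Z' h g z => by simp only [comp_lift, comp_sm, Category.assoc])
    (fun Z z => by
      rw [MonObj.one_comp, MonObj.one_comp, sm_one, sm_one]
      apply CartesianMonoidalCategory.hom_ext <;> simp)
    (fun Z g g' z => by simp only [MonObj.mul_comp, sm_mul, lift_fst, lift_snd])
  have hpseudo : NonAbH1.IsPseudoTorsorSch aW := by
    refine pseudo_of_sm aW (fun Z z z' => ?_) (fun Z g g' z e => ?_)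
    · obtain ⟨g₁, hg₁⟩ := sm_exists a₁ hT₁.1 (z ≫ fst _ _) (z' ≫ fst _ _)
      obtain ⟨g₂, hg₂⟩ := sm_exists a₂ hT₂.1 (z ≫ snd _ _) (z' ≫ snd _ _)
      refine ⟨lift g₁ g₂, ?_⟩
      rw [haW, lift_fst, lift_snd, hg₁, hg₂]
      apply CartesianMonoidalCategory.hom_ext <;> simp
    · simp only [haW] at e
      have e₁ := congrArg (· ≫ fst T₁ T₂) e
      have e₂ := congrArg (· ≫ snd T₁ T₂) e
      simp only [lift_fst, lift_snd] at e₁ e₂
      exact CartesianMonoidalCategory.hom_ext _ _ (sm_inj a₁ hT₁.1 e₁) (sm_inj a₂ hT₂.1 e₂)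
  obtain ⟨_, hflat₁, hsurj₁, hqc₁⟩ := torsor_props hT₁
  obtain ⟨_, hflat₂, hsurj₂, hqc₂⟩ := torsor_props hT₂
  haveI : Flat (T₁ ⊗ T₂).hom := by
    haveI := hflat₁; haveI := hflat₂
    exact inferInstanceAs (Flat (Limits.pullback.fst T₁.hom T₂.hom ≫ T₁.hom))
  haveI : Surjective (T₁ ⊗ T₂).hom := by
    haveI := hsurj₁; haveI := hsurj₂
    exact inferInstanceAs (Surjective (Limits.pullback.fst T₁.hom T₂.hom ≫ T₁.hom))
  haveI : QuasiCompact (T₁ ⊗ T₂).hom := by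
    haveI := hqc₁; haveI := hqc₂
    exact inferInstanceAs (QuasiCompact (Limits.pullback.fst T₁.hom T₂.hom ≫ T₁.hom))
  have hW : NonAbH1.IsTorsorFor Scheme.fpqcPrecoverage aW :=
    ⟨hpseudo, Presieve.singleton (T₁ ⊗ T₂).hom, Scheme.Hom.singleton_mem_fpqcPrecoverage _,
      fun S' f' hf' => by obtain ⟨⟩ := hf'; exact ⟨𝟙 _, Category.id_comp _⟩⟩
  -- relative position
  obtain ⟨ψ, hψ₀⟩ := sm_exists a hT.1 (snd T₁ T₂ ≫ f₂) (fst T₁ T₂ ≫ f₁)
  have hψ : ∀ (Z : Over X) (z : Z ⟶ T₁ ⊗ T₂),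
      sm a (mpm 𝐁 z ≫ ψ) ((z ≫ snd _ _) ≫ f₂) = (z ≫ fst _ _) ≫ f₁ := fun Z z => by
    rw [Category.assoc, Category.assoc, ← comp_sm, hψ₀]
  let Z₁ : Over X := Over.mk x
  let u₁ : Z₁ ⟶ T₁ := Over.homMk t₁ ht₁
  let u₂ : Z₁ ⟶ T₂ := Over.homMk t₂ ht₂
  refine ⟨K, inferInstance, inferInstance, aS, aW, ψ, (lift u₁ u₂).left, hW, fun Z g z => ?_, ?_,
    fun Z z hz => ?_⟩
  · have e := hψ Z (sm aW g z)
    simp only [haW, lift_fst, lift_snd, he₁, he₂] at e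
    rw [← hψ Z z, ← sm_mul, ← sm_mul] at e
    have e' := sm_inj a hT.1 e
    rw [← haW] at e'
    show _ = lift g _ ≫ act
    rw [hact]
    exact eq_mul_inv_of_mul_eq e'
  · have e := hψ Z₁ (lift u₁ u₂)
    rw [lift_fst, lift_snd, show u₁ ≫ f₁ = u₂ ≫ f₂ from Over.OverMorphism.ext (hft₁.trans hft₂.symm)] at e
    have e' : mpm 𝐁 (lift u₁ u₂) ≫ ψ = 1 := sm_inj a hT.1 (e.trans (sm_one a _).symm)
    have e'' := congrArg CommaMorphism.left e'
    refine e''.trans ?_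
    rw [Hom.one_def]
    show (x ≫ 𝐁) ≫ η[G].left = η[G].left
    rw [hx]
    exact Category.id_comp _
  · have e := hψ Z z
    rw [hz, ← Hom.one_def, sm_one] at e
    exact e.symm

/-- The fibre product of pointed finite torsors over a connected base surjects onto the base. -/
theorem surjective_fibreProd [PreconnectedSpace X] (hx : x ≫ 𝐁 = 𝟙 _)
    (hT : NonAbH1.IsTorsorFor Scheme.fpqcPrecoverage a) (hT₁ : NonAbH1.IsTorsorFor Scheme.fpqcPrecoverage a₁)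
    (hT₂ : NonAbH1.IsTorsorFor Scheme.fpqcPrecoverage a₂)
    (ht₁ : t₁ ≫ T₁.hom = x) (ht₂ : t₂ ≫ T₂.hom = x) (f₁ : T₁ ⟶ T) (f₂ : T₂ ⟶ T)
    (hf₁ : AlgGrp.Action.IsEquivariant a₁ (a.restrict ((Over.pullback 𝐁).map φ₁)) f₁)
    (hf₂ : AlgGrp.Action.IsEquivariant a₂ (a.restrict ((Over.pullback 𝐁).map φ₂)) f₂)
    (hft₁ : t₁ ≫ f₁.left = t) (hft₂ : t₂ ≫ f₂.left = t) :
    Surjective (Limits.pullback f₁ f₂).hom := by
  obtain ⟨K, _, _, aS, aW, ψ, w₀, hW, hψ, hw₀, hkey⟩ :=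
    exists_position hx hT hT₁ hT₂ ht₁ ht₂ hf₁ hf₂ hft₁ hft₂
  obtain ⟨Z, e, z, he, hz⟩ := exists_translate aS aW ψ hψ hW w₀ hw₀
  haveI := he
  obtain ⟨_, _, hWsurj, _⟩ := torsor_props hW
  haveI := hWsurj
  let l : Z ⟶ Limits.pullback f₁ f₂ := Limits.pullback.lift _ _ (hkey Z z hz)
  haveI : Surjective (l.left ≫ (Limits.pullback f₁ f₂).hom) := by
    rw [Over.w l, ← Over.w e]
    infer_instance
  exact Surjective.of_comp l.left _

/-- The fibre product of pointed finite torsors over a connected reduced base is a torsor. -/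
theorem exists_fibreProd_torsor [PreconnectedSpace X] [IsReduced X] (hx : x ≫ 𝐁 = 𝟙 _)
    (hT : NonAbH1.IsTorsorFor Scheme.fpqcPrecoverage a) (hT₁ : NonAbH1.IsTorsorFor Scheme.fpqcPrecoverage a₁)
    (hT₂ : NonAbH1.IsTorsorFor Scheme.fpqcPrecoverage a₂)
    (ht₁ : t₁ ≫ T₁.hom = x) (ht₂ : t₂ ≫ T₂.hom = x) (f₁ : T₁ ⟶ T) (f₂ : T₂ ⟶ T)
    (hf₁ : AlgGrp.Action.IsEquivariant a₁ (a.restrict ((Over.pullback 𝐁).map φ₁)) f₁)
    (hf₂ : AlgGrp.Action.IsEquivariant a₂ (a.restrict ((Over.pullback 𝐁).map φ₂)) f₂)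
    (hft₁ : t₁ ≫ f₁.left = t) (hft₂ : t₂ ≫ f₂.left = t)
    {P : Over (Spec (CommRingCat.of k))} [GrpObj P] {π₁ : P ⟶ G₁} {π₂ : P ⟶ G₂} [IsMonHom π₁] [IsMonHom π₂]
    (hP : IsPullback π₁ π₂ φ₁ φ₂) :
    ∃ c : AlgGrp.Action (Red.bc 𝐁 P) (Limits.pullback f₁ f₂),
      AlgGrp.Action.IsEquivariant c (a₁.restrict ((Over.pullback 𝐁).map π₁)) (Limits.pullback.fst f₁ f₂) ∧
      AlgGrp.Action.IsEquivariant c (a₂.restrict ((Over.pullback 𝐁).map π₂)) (Limits.pullback.snd f₁ f₂) ∧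
      NonAbH1.IsTorsorFor Scheme.fppfPrecoverage c := by
  have he₁ := (equivariant_iff a f₁ φ₁).1 hf₁
  have he₂ := (equivariant_iff a f₂ φ₂).1 hf₂
  have good : ∀ (Z : Over X) (q : mp 𝐁 Z ⟶ P) (z : Z ⟶ Limits.pullback f₁ f₂),
      sm a₁ (q ≫ π₁) (z ≫ Limits.pullback.fst f₁ f₂) ≫ f₁ =
        sm a₂ (q ≫ π₂) (z ≫ Limits.pullback.snd f₁ f₂) ≫ f₂ := by
    intro Z q z
    rw [he₁, he₂]
    simp only [Category.assoc, Limits.pullback.condition, hP.w]
  obtain ⟨c, hc⟩ := exists_action (T := Limits.pullback f₁ f₂)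
    (fun Z q z => Limits.pullback.lift _ _ (good Z q z))
    (fun Z Z' h q z => by
      apply Limits.pullback.hom_ext <;>
        simp only [Category.assoc, Limits.pullback.lift_fst, Limits.pullback.lift_snd, comp_sm])
    (fun Z z => by
      apply Limits.pullback.hom_ext <;>
        simp only [Limits.pullback.lift_fst, Limits.pullback.lift_snd, MonObj.one_comp, sm_one])
    (fun Z g g' z => by
      apply Limits.pullback.hom_ext <;>
        simp only [Limits.pullback.lift_fst, Limits.pullback.lift_snd, MonObj.mul_comp, sm_mul])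
  have hpseudo : NonAbH1.IsPseudoTorsorSch c := by
    refine pseudo_of_sm c (fun Z z z' => ?_) (fun Z g g' z e => ?_)
    · obtain ⟨g₁, hg₁⟩ := sm_exists a₁ hT₁.1 (z ≫ Limits.pullback.fst f₁ f₂) (z' ≫ Limits.pullback.fst f₁ f₂)
      obtain ⟨g₂, hg₂⟩ := sm_exists a₂ hT₂.1 (z ≫ Limits.pullback.snd f₁ f₂) (z' ≫ Limits.pullback.snd f₁ f₂)
      have e₁ := congrArg (· ≫ f₁) hg₁
      have e₂ := congrArg (· ≫ f₂) hg₂
      simp only [he₁, he₂, Category.assoc, Limits.pullback.condition] at e₁ e₂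
      refine ⟨hP.lift g₁ g₂ (sm_inj a hT.1 (e₁.trans e₂.symm)), ?_⟩
      rw [hc]
      apply Limits.pullback.hom_ext
      · rw [Limits.pullback.lift_fst, IsPullback.lift_fst, hg₁]
      · rw [Limits.pullback.lift_snd, IsPullback.lift_snd, hg₂]
    · simp only [hc] at e
      have e₁ := congrArg (· ≫ Limits.pullback.fst f₁ f₂) e
      have e₂ := congrArg (· ≫ Limits.pullback.snd f₁ f₂) e
      simp only [Limits.pullback.lift_fst, Limits.pullback.lift_snd] at e₁ e₂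
      exact hP.hom_ext (sm_inj a₁ hT₁.1 e₁) (sm_inj a₂ hT₂.1 e₂)
  refine ⟨c, (equivariant_iff a₁ _ π₁).2 fun Z q z => by rw [hc, Limits.pullback.lift_fst],
    (equivariant_iff a₂ _ π₂).2 fun Z q z => by rw [hc, Limits.pullback.lift_snd], ?_⟩
  have hloc : NonAbH1.IsTorsorFor Scheme.fpqcPrecoverage c := by
    obtain ⟨K, _, _, aS, aW, ψ, w₀, hW, hψ, hw₀, hkey⟩ :=
      exists_position hx hT hT₁ hT₂ ht₁ ht₂ hf₁ hf₂ hft₁ hft₂
    obtain ⟨H, _, i, _, _, V, v, _, b, hb, -, hv, -, -⟩ := exists_stab_torsor aS aW ψ hψ hW w₀ hw₀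
    obtain ⟨R, hR, hsec⟩ := hb.2
    refine ⟨hpseudo, R, hR, fun S' g hg => ?_⟩
    obtain ⟨s, hs⟩ := hsec g hg
    exact ⟨s ≫ (Limits.pullback.lift _ _ (hkey V v hv) : V ⟶ Limits.pullback f₁ f₂).left, by
      rw [Category.assoc, Over.w, hs]⟩
  haveI : IsFinite P.hom := by
    have sq := (Over.forget _).map_isPullback hP
    haveI : IsFinite (φ₂.left ≫ G.hom) := by rw [Over.w]; infer_instance
    haveI : IsFinite φ₂.left := IsFinite.of_comp φ₂.left G.hom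
    haveI : IsFinite π₁.left := MorphismProperty.of_isPullback (P := @IsFinite) sq.flip ‹IsFinite φ₂.left›
    rw [← Over.w π₁]
    infer_instance
  haveI : Flat (Red.bc 𝐁 P).hom := MorphismProperty.pullback_snd (P := @Flat) _ _ (flat_over_field P)
  haveI : LocallyOfFinitePresentation P.hom := inferInstance
  haveI : LocallyOfFinitePresentation (Red.bc 𝐁 P).hom :=
    MorphismProperty.pullback_snd (P := @LocallyOfFinitePresentation) _ _ inferInstance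
  exact Groth.Agent.S12837.result _ _ c hloc

end Groth.L19.Nori
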