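import Groth.Agent.L19.Nori.Induced
import Groth.Agent.S16029
import Mathlib.RingTheory.Flat.EquationalCriterion
import Mathlib.RingTheory.Ideal.GoingUp
import Mathlib.AlgebraicGeometry.Morphisms.Flat

/-!
# Schematically dominant homomorphisms of pro-finite group schemes are faithfully flat
-/

set_option autoImplicit false
set_option linter.style.haveILetI false
set_option linter.unusedSectionVars false
set_option backward.isDefEq.respectTransparency.types false
set_option backward.isDefEq.respectTransparency false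

universe u

open CategoryTheory MonoidalCategory CartesianMonoidalCategory MonObj AlgebraicGeometry

namespace Groth.L19.Nori

variable {k : Type u} [Field k]

/-- A homomorphism of pro-finite groups which stays schematically dominant onto every finite quotient is
faithfully flat. -/
theorem flat_surjective_of_ker_bot {πX πY : Over (Spec (CommRingCat.of k))} [GrpObj πX] [GrpObj πY]
    (hX : NoriFGS.IsProFinite πX) (hY : NoriFGS.IsProFinite πY) (φ : πX ⟶ πY) [IsMonHom φ]
    (h : ∀ (H : Over (Spec (CommRingCat.of k))) [GrpObj H] [IsFinite H.hom] (χ : πY ⟶ H) [IsMonHom χ],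
      χ.left.ker = ⊥ → (φ ≫ χ).left.ker = ⊥) :
    Flat φ.left ∧ Surjective φ.left := by
  haveI := isAffine_of_isProFinite hX
  haveI := isAffine_of_isProFinite hY
  classical
  have hinj : Function.Injective φ.left.appTop.hom := by
    rw [injective_iff_map_eq_zero]
    intro a ha
    obtain ⟨H, _, _, χ, _, hker, hrange⟩ := exists_quotient hY {a}
    obtain ⟨a', ha'⟩ := hrange a (Finset.mem_singleton_self _)
    haveI := isAffine_of_isFinite H
    have e : (φ ≫ χ).left.appTop.hom a' = 0 := by
      rw [Over.comp_left, Scheme.Hom.comp_appTop, CommRingCat.hom_comp, RingHom.comp_apply]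
      exact (congrArg φ.left.appTop.hom ha').trans ha
    have hz : a' = 0 := appTop_injective_of_ker_bot _ (h H χ hker) (e.trans (map_zero _).symm)
    rw [← ha', hz, map_zero]
  have hflat : φ.left.appTop.hom.Flat := by
    letI : Algebra Γ(πY.left, ⊤) Γ(πX.left, ⊤) := φ.left.appTop.hom.toAlgebra
    show Module.Flat Γ(πY.left, ⊤) Γ(πX.left, ⊤)
    refine Module.Flat.of_forall_isTrivialRelation fun {l f x} hfx => ?_
    obtain ⟨H', _, _, χ, _, hker, hrange⟩ := exists_quotient hY (Finset.univ.image f)
    choose f' hf' using fun i : Fin l => hrange (f i) (Finset.mem_image_of_mem f (Finset.mem_univ i))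
    obtain ⟨H, _, _, χ', _, q, _, hker', hfac, hrange'⟩ :=
      exists_quotient_over hX (φ ≫ χ) (Finset.univ.image x)
    choose x' hx' using fun i : Fin l => hrange' (x i) (Finset.mem_image_of_mem x (Finset.mem_univ i))
    haveI := isAffine_of_isFinite H
    haveI := isAffine_of_isFinite H'
    have hqker : q.left.ker = ⊥ := by
      rw [eq_bot_iff, ← h H' χ hker, ← hfac, Over.comp_left]
      exact Scheme.Hom.le_ker_comp _ _
    obtain ⟨_, -, -⟩ := Groth.Agent.S16029.result k H H' q hqker
    letI : Algebra Γ(H'.left, ⊤) Γ(H.left, ⊤) := q.left.appTop.hom.toAlgebra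
    haveI : Module.Flat Γ(H'.left, ⊤) Γ(H.left, ⊤) := q.left.flat_appTop
    have ecomm : ∀ r : Γ(H'.left, ⊤), χ'.left.appTop.hom (q.left.appTop.hom r) =
        φ.left.appTop.hom (χ.left.appTop.hom r) := fun r => by
      have e := congrArg (fun m => m.left.appTop.hom r) hfac
      simp only [Over.comp_left, Scheme.Hom.comp_appTop, CommRingCat.hom_comp, RingHom.comp_apply] at e
      exact e
    have hzero : ∑ i, f' i • x' i = 0 := by
      apply appTop_injective_of_ker_bot χ'.left hker'
      show χ'.left.appTop.hom (∑ i, f' i • x' i) = χ'.left.appTop.hom 0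
      rw [map_sum, map_zero, ← hfx]
      refine Finset.sum_congr rfl fun i _ => ?_
      show χ'.left.appTop.hom (q.left.appTop.hom (f' i) * x' i) = φ.left.appTop.hom (f i) * x i
      rw [map_mul, ecomm, hf', hx']
    obtain ⟨m, a, y, h₁, h₂⟩ := Module.Flat.isTrivialRelation_of_sum_smul_eq_zero (R := Γ(H'.left, ⊤)) (M := Γ(H.left, ⊤)) hzero
    refine ⟨m, fun i j => χ.left.appTop.hom (a i j), fun j => χ'.left.appTop.hom (y j), fun i => ?_, fun j => ?_⟩
    · rw [← hx' i, h₁ i]
      show χ'.left.appTop.hom (∑ j, q.left.appTop.hom (a i j) * y j) = _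
      rw [map_sum]
      refine Finset.sum_congr rfl fun j _ => ?_
      show χ'.left.appTop.hom (q.left.appTop.hom (a i j) * y j) =
        φ.left.appTop.hom (χ.left.appTop.hom (a i j)) * χ'.left.appTop.hom (y j)
      rw [map_mul, ecomm]
    · have e := congrArg χ.left.appTop.hom (h₂ j)
      rw [map_sum, map_zero] at e
      rw [← e]
      refine Finset.sum_congr rfl fun i _ => ?_
      rw [map_mul, hf']
  have hint : φ.left.appTop.hom.IsIntegral := by
    intro b
    obtain ⟨H, _, _, χ', _, -, hrange⟩ := exists_quotient hX {b}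
    obtain ⟨b', rfl⟩ := hrange b (Finset.mem_singleton_self _)
    haveI := isAffine_of_isFinite H
    let α : k →+* Γ(H.left, ⊤) := H.hom.appTop.hom.comp (Scheme.ΓSpecIso (CommRingCat.of k)).inv.hom
    have hα : α.IsIntegral := (((HasAffineProperty.iff_of_isAffine (P := @IsFinite)).1 ‹IsFinite H.hom›).2.comp
      (RingHom.Finite.of_surjective _
        (Scheme.ΓSpecIso (CommRingCat.of k)).commRingCatIsoToRingEquiv.symm.surjective)).to_isIntegral
    obtain ⟨p, hp, hp'⟩ := hα b'
    let β : k →+* Γ(πY.left, ⊤) := πY.hom.appTop.hom.comp (Scheme.ΓSpecIso (CommRingCat.of k)).inv.hom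
    have hβ : φ.left.appTop.hom.comp β = χ'.left.appTop.hom.comp α := by
      ext r
      simp only [α, β, RingHom.comp_apply]
      have e₁ := congrArg (fun m => m.appTop.hom ((Scheme.ΓSpecIso (CommRingCat.of k)).inv.hom r)) (Over.w φ)
      have e₂ := congrArg (fun m => m.appTop.hom ((Scheme.ΓSpecIso (CommRingCat.of k)).inv.hom r)) (Over.w χ')
      simp only [Scheme.Hom.comp_appTop, CommRingCat.hom_comp, RingHom.comp_apply] at e₁ e₂
      exact e₁.trans e₂.symm
    refine ⟨p.map β, hp.map β, ?_⟩
    show Polynomial.eval₂ φ.left.appTop.hom (χ'.left.appTop.hom b') (p.map β) = 0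
    rw [Polynomial.eval₂_map, hβ, ← Polynomial.hom_eval₂, hp', map_zero]
  constructor
  · rw [HasRingHomProperty.iff_of_isAffine (P := @Flat)]
    exact hflat
  · rw [MorphismProperty.arrow_mk_iso_iff @Surjective (arrowIsoSpecΓOfIsAffine φ.left)]
    refine ⟨fun q => ?_⟩
    letI : Algebra Γ(πY.left, ⊤) Γ(πX.left, ⊤) := φ.left.appTop.hom.toAlgebra
    haveI : Algebra.IsIntegral Γ(πY.left, ⊤) Γ(πX.left, ⊤) := ⟨hint⟩
    obtain ⟨Q, -, hQp, hQ⟩ := Ideal.exists_ideal_over_prime_of_isIntegral q.asIdeal (⊥ : Ideal Γ(πX.left, ⊤))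
      (fun r hr => by
        have : r = 0 := hinj ((Ideal.mem_bot.1 (Ideal.mem_comap.1 hr)).trans (map_zero _).symm)
        simp [this])
    exact ⟨⟨Q, hQp⟩, PrimeSpectrum.ext hQ⟩

end Groth.L19.Nori
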