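import Groth.Agent.L19.Nori.Aff

/-!
# Pull-back of pointed torsors and induced homomorphisms of fundamental group schemes
-/

set_option autoImplicit false
set_option linter.style.haveILetI false
set_option linter.unusedSectionVars false
set_option backward.isDefEq.respectTransparency.types false
set_option backward.isDefEq.respectTransparency false

universe u

open CategoryTheory MonoidalCategory CartesianMonoidalCategory MonObj AlgebraicGeometry

namespace Groth.L19.Nori

section Points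

variable {S Y X : Scheme.{u}} {B : Y ⟶ S} {B' : X ⟶ S} (f : X ⟶ Y) (hf : f ≫ B = B') {H : Over S} [GrpObj H]
  {U : Over Y} (c : AlgGrp.Action (Red.bc B H) U)

/-- An `X`-scheme regarded over `S` directly or through `Y`. -/
noncomputable abbrev tw (Z : Over X) : mp B (mp f Z) ⟶ mp B' Z :=
  Over.homMk (𝟙 Z.left) ((Category.id_comp _).trans (by
    show Z.hom ≫ B' = (Z.hom ≫ f) ≫ B
    rw [Category.assoc, hf]))

/-- The inverse of `tw`. -/
noncomputable abbrev tw' (Z : Over X) : mp B' Z ⟶ mp B (mp f Z) :=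
  Over.homMk (𝟙 Z.left) ((Category.id_comp _).trans (by
    show (Z.hom ≫ f) ≫ B = Z.hom ≫ B'
    rw [Category.assoc, hf]))

theorem tw'_tw (Z : Over X) : tw' f hf Z ≫ tw f hf Z = 𝟙 _ :=
  Over.OverMorphism.ext (Category.id_comp _)

theorem tw_tw' (Z : Over X) : tw f hf Z ≫ tw' f hf Z = 𝟙 _ :=
  Over.OverMorphism.ext (Category.id_comp _)

theorem he_inv {Z : Over X} {H : Over S} (g : mp B' Z ⟶ H) :
    he g ≫ (ActBC.bcCompIso f B H hf).inv = he (B := f) (he (tw f hf Z ≫ g)) := by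
  rw [Iso.comp_inv_eq]
  apply Over.OverMorphism.ext
  apply Limits.pullback.hom_ext
  · simp [he, Over.mapPullbackAdj, tw]
  · simp [he, Over.mapPullbackAdj]

theorem he_he_tw {Z : Over X} {H : Over S} (g : mp B (mp f Z) ⟶ H) :
    he (B := f) (he g) = he (tw' f hf Z ≫ g) ≫ (ActBC.bcCompIso f B H hf).inv := by
  rw [he_inv, ← Category.assoc, tw_tw', Category.id_comp]

/-- The pull-back action, on points. -/
theorem sm_bc {Z : Over X} (g : mp B' Z ⟶ H) (z : Z ⟶ Red.bc f U) :
    he' (sm ((c.bc f).restrict (ActBC.bcCompIso f B H hf).inv) g z) = sm c (tw f hf Z ≫ g) (he' z) := by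
  conv_lhs => rw [sm, AlgGrp.Action.lift_restrict_act, he_inv, ← he_he' z]
  rw [AlgGrp.Action.lift_homEquiv_bc_act]
  exact ((Over.mapPullbackAdj f).homEquiv Z U).symm_apply_apply _

theorem isTorsor_bc (h : NonAbH1.IsTorsorFor Scheme.fpqcPrecoverage c) :
    NonAbH1.IsTorsorFor Scheme.fpqcPrecoverage ((c.bc f).restrict (ActBC.bcCompIso f B H hf).inv) := by
  refine ⟨pseudo_of_sm _ (fun Z z z' => ?_) (fun Z g g' z e => ?_), NonAbH1.isLocallyTrivialFor_bc f _ h.2⟩
  · obtain ⟨g, hg⟩ := sm_exists c h.1 (he' z) (he' z')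
    refine ⟨tw' f hf Z ≫ g, ((Over.mapPullbackAdj f).homEquiv Z U).symm.injective ?_⟩
    show he' (sm _ _ _) = he' z'
    rw [sm_bc, ← Category.assoc, tw_tw', Category.id_comp, hg]
  · have e' := congrArg he' e
    rw [sm_bc, sm_bc] at e'
    have e'' := congrArg (tw' f hf Z ≫ ·) (sm_inj c h.1 e')
    simpa only [← Category.assoc, tw'_tw, Category.id_comp] using e''

theorem he'_left {Z : Over X} {U : Over Y} (z : Z ⟶ Red.bc f U) :
    (he' z).left = z.left ≫ Limits.pullback.fst U.hom f := by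
  simp [he', Over.mapPullbackAdj]

end Points

variable {k : Type u} [Field k] {X Y : Scheme.{u}} [X.Over (Spec (CommRingCat.of k))]
  [Y.Over (Spec (CommRingCat.of k))]

section Induced

variable {x : Spec (CommRingCat.of k) ⟶ X} {y : Spec (CommRingCat.of k) ⟶ Y} (f : X ⟶ Y)
  (hf : f ≫ (Y ↘ Spec (CommRingCat.of k)) = X ↘ Spec (CommRingCat.of k))
  {πX πY : Over (Spec (CommRingCat.of k))} [GrpObj πX] [GrpObj πY] {PX : Over X} {PY : Over Y}
  {aX : AlgGrp.Action (Red.bc (X ↘ Spec (CommRingCat.of k)) πX) PX}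
  {aY : AlgGrp.Action (Red.bc (Y ↘ Spec (CommRingCat.of k)) πY) PY}
  {pX : Spec (CommRingCat.of k) ⟶ PX.left} {pY : Spec (CommRingCat.of k) ⟶ PY.left} {φ : πX ⟶ πY}

theorem induced_spec [IsMonHom φ] (hφ : NoriFGS.IsInducedHom f hf aX pX aY pY φ) :
    ∃ g : mp f PX ⟶ PY, pX ≫ g.left = pY ∧
      ∀ (Z : Over X) (γ : mp (X ↘ Spec (CommRingCat.of k)) Z ⟶ πX) (z : Z ⟶ PX),
        mpm f (sm aX γ z) ≫ g = sm aY (tw f hf Z ≫ γ ≫ φ) (mpm f z ≫ g) := by
  obtain ⟨_, g, hg, hp⟩ := hφ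
  refine ⟨he' g, by rw [he'_left]; exact hp, fun Z γ z => ?_⟩
  have h := congrArg (lift (he γ ≫ (ActBC.bcCompIso f _ πX hf).inv) z ≫ ·) hg
  simp only [lift_whiskerLeft_assoc, AlgGrp.Action.lift_restrict_act] at h
  rw [← Category.assoc (lift _ z), AlgGrp.Action.lift_restrict_act, Category.assoc (he γ),
    Iso.inv_hom_id, Category.comp_id] at h
  rw [he_inv, ← he_comp (B := f), ← he_comp, ← he_he' (z ≫ g), AlgGrp.Action.lift_homEquiv_bc_act,
    Category.assoc] at h
  have h' := congrArg he' h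
  have e1 : ∀ w : Z ⟶ PX, he' (w ≫ g) = mpm f w ≫ he' g := fun w =>
    Adjunction.homEquiv_naturality_left_symm _ _ _
  rw [e1 z] at h'
  exact ((e1 (sm aX γ z)).symm.trans h').trans (((Over.mapPullbackAdj f).homEquiv Z PY).symm_apply_apply _)

/-- The pull-back of a pointed torsor, with its classifying map. -/
theorem exists_pullback_classify (hX : NoriFGS.IsFGS x πX aX pX) [IsMonHom φ]
    (hφ : NoriFGS.IsInducedHom f hf aX pX aY pY φ) (hfx : x ≫ f = y)
    {H : Over (Spec (CommRingCat.of k))} [GrpObj H] {U : Over Y}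
    {c : AlgGrp.Action (Red.bc (Y ↘ Spec (CommRingCat.of k)) H) U} {u : Spec (CommRingCat.of k) ⟶ U.left}
    (hc : NonAbH1.IsTorsorFor Scheme.fpqcPrecoverage c) (hu : u ≫ U.hom = y)
    {χ : πY ⟶ H} [IsMonHom χ] {h : PY ⟶ U} (hh : NoriFGS.IsPtTorsorHom aY pY c u χ h) :
    ∃ (t : Spec (CommRingCat.of k) ⟶ (Red.bc f U).left) (d : PX ⟶ Red.bc f U),
      NonAbH1.IsTorsorFor Scheme.fpqcPrecoverage
        ((c.bc f).restrict (ActBC.bcCompIso f (Y ↘ Spec (CommRingCat.of k)) H hf).inv) ∧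
      t ≫ (Red.bc f U).hom = x ∧ t ≫ Limits.pullback.fst U.hom f = u ∧
      NoriFGS.IsPtTorsorHom aX pX
        ((c.bc f).restrict (ActBC.bcCompIso f (Y ↘ Spec (CommRingCat.of k)) H hf).inv) t (φ ≫ χ) d := by
  obtain ⟨g, hgp, hg⟩ := induced_spec f hf hφ
  refine ⟨Limits.pullback.lift u x (hu.trans hfx.symm), he (g ≫ h), isTorsor_bc f hf c hc,
    Limits.pullback.lift_snd _ _ _, Limits.pullback.lift_fst _ _ _, ?_, ?_⟩
  · rw [equivariant_iff]
    intro Z γ z
    apply ((Over.mapPullbackAdj f).homEquiv Z U).symm.injective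
    show he' _ = he' _
    have e1 : ∀ w : Z ⟶ PX, he' (w ≫ he (g ≫ h)) = mpm f w ≫ g ≫ h := fun w => by
      rw [comp_he]
      exact ((Over.mapPullbackAdj f).homEquiv Z U).symm_apply_apply _
    rw [sm_bc, e1, e1, ← Category.assoc, hg, (equivariant_iff c h χ).1 hh.1]
    simp only [Category.assoc]
  · apply Limits.pullback.hom_ext
    · rw [Limits.pullback.lift_fst, Category.assoc, ← he'_left]
      have : he' (he (g ≫ h)) = g ≫ h := ((Over.mapPullbackAdj f).homEquiv _ U).symm_apply_apply _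
      rw [this, Over.comp_left, ← Category.assoc, hgp, hh.2]
    · rw [Limits.pullback.lift_snd, Category.assoc]
      exact (congrArg (pX ≫ ·) (Over.w (he (g ≫ h)))).trans hX.2.2.1

end Induced

end Groth.L19.Nori
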