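import Groth.Agent.L19.Nori.Induced
import Groth.Agent.L19.ImmLift
import Groth.Agent.L08.HomSpace.Quot
import Groth.Agent.L08.SubgroupObj
import Groth.Agent.L09.TorsorSch
import Groth.Agent.S6003
import Mathlib.AlgebraicGeometry.Morphisms.LocalFlatDescent
import Mathlib.AlgebraicGeometry.Morphisms.UniversallyOpen
import Mathlib.AlgebraicGeometry.Morphisms.QuasiFinite
import Mathlib.AlgebraicGeometry.Morphisms.SchemeTheoreticallyDominant

/-!
# Equivariant maps from torsors over a connected reduced base to finite schemes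

If `W` is a pointed torsor under a finite group `G` over a connected base `X` with a rational point and
`ψ : W ⟶ S` is an equivariant map to a finite scheme, then `ψ` lands in the orbit of the image `s₀` of the
marked point; over a reduced base the points over `s₀` form a torsor under the stabilizer of `s₀`.
-/

set_option autoImplicit false
set_option linter.style.haveILetI false
set_option linter.unusedSectionVars false
set_option backward.isDefEq.respectTransparency.types false
set_option backward.isDefEq.respectTransparency false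

universe u

open CategoryTheory MonoidalCategory CartesianMonoidalCategory MonObj AlgebraicGeometry

namespace Groth.L19.Nori

/-- A faithfully flat quasi-compact morphism is covering. -/
theorem cov_of_ff {S : Scheme.{u}} {A B : Over S} (q : A ⟶ B) [Flat q.left] [Surjective q.left]
    [QuasiCompact q.left] : Groth.L27.Torsor.Cov q :=
  Precoverage.generate_mem_toGrothendieck (Scheme.Hom.singleton_mem_fpqcPrecoverage _)

/-- Factorisation through a monomorphism can be checked on a faithfully flat quasi-compact cover. -/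
theorem fac_of_cover {S : Scheme.{u}} {A B Z Q : Over S} (q : A ⟶ B) [Flat q.left] [Surjective q.left]
    [QuasiCompact q.left] (z : B ⟶ Z) (j : Q ⟶ Z) [Mono j] (w : A ⟶ Q) (h : w ≫ j = q ≫ z) :
    ∃ w' : B ⟶ Q, w' ≫ j = z := by
  obtain ⟨w', hw'⟩ := Groth.L27.Torsor.descend (cov_of_ff q) w fun T a b hab => by
    rw [← cancel_mono j, Category.assoc, Category.assoc, h, reassoc_of% hab]
  exact ⟨w', Groth.L27.Torsor.cancel (cov_of_ff q) (by rw [reassoc_of% hw', h])⟩

variable {k : Type u} [Field k]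

section Orbit

variable {G S : Over (Spec (CommRingCat.of k))} [GrpObj G] (aS : AlgGrp.Action G S)

/-- The stabilizer of a rational point of a finite scheme and the orbit as a closed subscheme. -/
theorem exists_stab_orbit [IsFinite G.hom] [IsFinite S.hom] (s₀ : 𝟙_ (Over (Spec (CommRingCat.of k))) ⟶ S) :
    ∃ (H : Over (Spec (CommRingCat.of k))) (_ : GrpObj H) (i : H ⟶ G) (_ : IsMonHom i)
      (_ : IsClosedImmersion i.left) (Q : Over (Spec (CommRingCat.of k))) (p : G ⟶ Q) (j : Q ⟶ S),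
      IsClosedImmersion j.left ∧ Flat p.left ∧ Surjective p.left ∧ QuasiCompact p.left ∧
      p ≫ j = aS.orbitMap s₀ ∧
      ∀ (Z : Over (Spec (CommRingCat.of k))) (g : Z ⟶ G),
        (∃ h : Z ⟶ H, h ≫ i = g) ↔ lift g (toUnit Z ≫ s₀) ≫ aS.act = toUnit Z ≫ s₀ := by
  haveI : IsAffine G.left := isAffine_of_isFinite G
  haveI : IsClosedImmersion (s₀.left ≫ S.hom) := by
    rw [Over.w s₀]
    exact inferInstanceAs (IsClosedImmersion (𝟙 _))
  haveI : IsClosedImmersion s₀.left := IsClosedImmersion.of_comp s₀.left S.hom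
  let π := aS.orbitMap s₀
  let H : Over (Spec (CommRingCat.of k)) := Over.mk (Limits.pullback.fst π.left s₀.left ≫ G.hom)
  let i : H ⟶ G := Over.homMk (Limits.pullback.fst π.left s₀.left) rfl
  haveI hicl : IsClosedImmersion i.left :=
    inferInstanceAs (IsClosedImmersion (Limits.pullback.fst π.left s₀.left))
  haveI : Mono i := Over.mono_of_mono_left i
  have memH : ∀ (Z : Over (Spec (CommRingCat.of k))) (g : Z ⟶ G),
      (∃ h : Z ⟶ H, h ≫ i = g) ↔ lift g (toUnit Z ≫ s₀) ≫ aS.act = toUnit Z ≫ s₀ := by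
    intro Z g
    rw [← AlgGrp.Action.comp_orbitMap]
    constructor
    · rintro ⟨h, rfl⟩
      have e : i ≫ π = toUnit H ≫ s₀ := by
        apply Over.OverMorphism.ext
        show Limits.pullback.fst π.left s₀.left ≫ π.left = H.hom ≫ s₀.left
        rw [Limits.pullback.condition]
        congr 1
        have h1 : s₀.left ≫ S.hom = 𝟙 _ := Over.w s₀
        calc Limits.pullback.snd π.left s₀.left
            = Limits.pullback.snd π.left s₀.left ≫ s₀.left ≫ S.hom := by rw [h1]; exact (Category.comp_id _).symm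
          _ = Limits.pullback.fst π.left s₀.left ≫ π.left ≫ S.hom := by rw [Limits.pullback.condition_assoc]
          _ = _ := by rw [Over.w π]; rfl
      rw [Category.assoc, e, ← Category.assoc, toUnit_unique (h ≫ toUnit H) (toUnit Z)]
    · intro e
      refine ⟨Over.homMk (Limits.pullback.lift g.left (toUnit Z).left (congrArg CommaMorphism.left e)) ?_,
        Over.OverMorphism.ext (Limits.pullback.lift_fst _ _ _)⟩
      show Limits.pullback.lift _ _ _ ≫ Limits.pullback.fst π.left s₀.left ≫ G.hom = Z.hom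
      rw [Limits.pullback.lift_fst_assoc, Over.w g]
  obtain ⟨grpH, homH⟩ := Groth.L08.exists_grpObj_of_mono i
    ((memH _ _).2 (by
      rw [show η[G] = (1 : 𝟙_ _ ⟶ G) by rw [Hom.one_def, toUnit_unique (toUnit _) (𝟙 _), Category.id_comp]]
      exact AlgGrp.Action.lift_one_act aS _))
    ((memH _ _).2 (by
      rw [AlgGrp.Action.lift_mul_act, (memH _ _).1 ⟨snd H H, rfl⟩, (memH _ _).1 ⟨fst H H, rfl⟩]))
    ((memH _ _).2 (by
      conv_lhs => rw [← (memH _ _).1 ⟨𝟙 H, Category.id_comp i⟩]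
      rw [← AlgGrp.Action.lift_mul_act, inv_mul_cancel, AlgGrp.Action.lift_one_act]))
  letI := grpH
  haveI := homH
  obtain ⟨Q, p, aQ, hQlft, hQqc, hpsurj, hpflat, -, sq, -⟩ := Groth.L08.HomSpace.exists_quotient i
  haveI : QuasiCompact (p.left ≫ Q.hom) := by rw [Over.w]; infer_instance
  have hQsep : IsSeparated Q.hom → QuasiCompact p.left := fun _ => QuasiCompact.of_comp p.left Q.hom
  haveI : QuasiCompact p.left := by
    haveI : CompactSpace G.left := inferInstance
    haveI := hQlft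
    haveI : IsLocallyNoetherian Q.left := LocallyOfFiniteType.isLocallyNoetherian Q.hom
    exact quasiCompact_of_compactSpace p.left
  haveI := hpsurj
  haveI := hpflat
  obtain ⟨j, hj⟩ := Groth.L27.Torsor.descend (cov_of_ff p) π fun T x y e => by
    let z := sq.lift x y e
    have h1 : z ≫ fst G H = x := sq.lift_fst _ _ _
    have h2 : x * (z ≫ snd G H ≫ i) = y :=
      calc x * (z ≫ snd G H ≫ i) = (z ≫ fst G H) * (z ≫ snd G H ≫ i) := by rw [h1]
        _ = z ≫ (G ◁ i) ≫ μ[G] := by
          rw [Hom.mul_def, ← Category.assoc z (G ◁ i)]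
          congr 1
          apply CartesianMonoidalCategory.hom_ext <;> simp
        _ = y := sq.lift_snd x y e
    rw [AlgGrp.Action.comp_orbitMap, AlgGrp.Action.comp_orbitMap, ← h2, AlgGrp.Action.lift_mul_act,
      (memH T (z ≫ snd G H ≫ i)).1 ⟨z ≫ snd G H, Category.assoc _ _ _⟩]
  haveI : Mono j := by
    refine ⟨fun {T} a b hab => ?_⟩
    let T₁ : Over (Spec (CommRingCat.of k)) := Over.mk (Limits.pullback.fst a.left p.left ≫ T.hom)
    let q₁ : T₁ ⟶ T := Over.homMk (Limits.pullback.fst a.left p.left) rfl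
    let x : T₁ ⟶ G := Over.homMk (Limits.pullback.snd a.left p.left) (by
      show Limits.pullback.snd a.left p.left ≫ G.hom = Limits.pullback.fst a.left p.left ≫ T.hom
      rw [← Over.w p, ← Limits.pullback.condition_assoc, Over.w a])
    have hx : x ≫ p = q₁ ≫ a := Over.OverMorphism.ext Limits.pullback.condition.symm
    let T₂ : Over (Spec (CommRingCat.of k)) :=
      Over.mk (Limits.pullback.fst (q₁ ≫ b).left p.left ≫ T₁.hom)
    let q₂ : T₂ ⟶ T₁ := Over.homMk (Limits.pullback.fst (q₁ ≫ b).left p.left) rfl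
    let y : T₂ ⟶ G := Over.homMk (Limits.pullback.snd (q₁ ≫ b).left p.left) (by
      show Limits.pullback.snd (q₁ ≫ b).left p.left ≫ G.hom = Limits.pullback.fst (q₁ ≫ b).left p.left ≫ T₁.hom
      rw [← Over.w p, ← Limits.pullback.condition_assoc, Over.w (q₁ ≫ b)])
    have hy : y ≫ p = q₂ ≫ q₁ ≫ b := Over.OverMorphism.ext Limits.pullback.condition.symm
    haveI : Flat q₁.left := MorphismProperty.pullback_fst (P := @Flat) _ _ hpflat
    haveI : Surjective q₁.left := MorphismProperty.pullback_fst (P := @Surjective) _ _ hpsurj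
    haveI : QuasiCompact q₁.left := MorphismProperty.pullback_fst (P := @QuasiCompact) _ _ ‹QuasiCompact p.left›
    haveI : Flat q₂.left := MorphismProperty.pullback_fst (P := @Flat) _ _ hpflat
    haveI : Surjective q₂.left := MorphismProperty.pullback_fst (P := @Surjective) _ _ hpsurj
    haveI : QuasiCompact q₂.left := MorphismProperty.pullback_fst (P := @QuasiCompact) _ _ ‹QuasiCompact p.left›
    have e : (q₂ ≫ x) ≫ π = y ≫ π := by
      rw [← hj, Category.assoc, reassoc_of% hx, reassoc_of% hy, hab]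
    rw [AlgGrp.Action.comp_orbitMap, AlgGrp.Action.comp_orbitMap] at e
    obtain ⟨h, hh⟩ := (memH T₂ ((q₂ ≫ x)⁻¹ * y)).2 (by
      rw [AlgGrp.Action.lift_mul_act, ← e, ← AlgGrp.Action.lift_mul_act, inv_mul_cancel,
        AlgGrp.Action.lift_one_act])
    have e' : (q₂ ≫ x) ≫ p = y ≫ p := by
      have hw := lift (q₂ ≫ x) h ≫= sq.w
      rw [lift_fst_assoc] at hw
      rw [hw, ← Category.assoc, ← Category.assoc, lift_whiskerLeft, ← Hom.mul_def, hh, mul_inv_cancel_left]
    rw [Category.assoc, hx, hy] at e'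
    exact Groth.L27.Torsor.cancel (cov_of_ff q₁) (Groth.L27.Torsor.cancel (cov_of_ff q₂) e')
  haveI : Mono j.left := inferInstanceAs (Mono ((Over.forget _).map j))
  haveI : IsSeparated j.left := inferInstance
  haveI : IsSeparated Q.hom := by rw [← Over.w j]; infer_instance
  haveI : UniversallyClosed Q.hom := by
    haveI : UniversallyClosed (p.left ≫ Q.hom) := by rw [Over.w]; infer_instance
    exact UniversallyClosed.of_comp_surjective p.left Q.hom
  haveI : IsProper Q.hom := { }
  haveI : IsProper (j.left ≫ S.hom) := by rw [Over.w]; infer_instance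
  haveI : IsProper j.left := IsProper.of_comp j.left S.hom
  haveI hjcl : IsClosedImmersion j.left := (IsClosedImmersion.iff_isProper_and_mono j.left).2 ⟨‹_›, ‹_›⟩
  exact ⟨H, inferInstance, i, inferInstance, hicl, Q, p, j, hjcl, ‹_›, ‹_›, ‹_›, hj, memH⟩

end Orbit

variable {X : Scheme.{u}} [X.Over (Spec (CommRingCat.of k))]

local notation "𝐁" => (X ↘ Spec (CommRingCat.of k))

section Torsor

variable {G S : Over (Spec (CommRingCat.of k))} [GrpObj G] [IsFinite G.hom] [IsFinite S.hom]
  (aS : AlgGrp.Action G S) {W : Over X} (aW : AlgGrp.Action (Red.bc (X ↘ Spec (CommRingCat.of k)) G) W)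
  (ψ : mp (X ↘ Spec (CommRingCat.of k)) W ⟶ S)
  (hψ : ∀ (Z : Over X) (g : mp (X ↘ Spec (CommRingCat.of k)) Z ⟶ G) (z : Z ⟶ W),
    mpm _ (sm aW g z) ≫ ψ = lift g (mpm _ z ≫ ψ) ≫ aS.act)

include hψ in
/-- Translates of points over the orbit stay over the orbit. -/
theorem fac_orbit_translate {s₀ : 𝟙_ (Over (Spec (CommRingCat.of k))) ⟶ S}
    {Q : Over (Spec (CommRingCat.of k))} (p : G ⟶ Q) (j : Q ⟶ S) [Mono j] [Flat p.left] [Surjective p.left]
    [QuasiCompact p.left] (hj : p ≫ j = aS.orbitMap s₀) {Z : Over X} (g : mp 𝐁 Z ⟶ G) (z : Z ⟶ W)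
    (q : mp 𝐁 Z ⟶ Q) (hq : q ≫ j = mpm 𝐁 z ≫ ψ) :
    ∃ q' : mp 𝐁 Z ⟶ Q, q' ≫ j = mpm 𝐁 (sm aW g z) ≫ ψ := by
  rw [hψ]
  let Z' : Over (Spec (CommRingCat.of k)) := Over.mk (Limits.pullback.fst q.left p.left ≫ (mp 𝐁 Z).hom)
  let e : Z' ⟶ mp 𝐁 Z := Over.homMk (Limits.pullback.fst q.left p.left) rfl
  let x : Z' ⟶ G := Over.homMk (Limits.pullback.snd q.left p.left) (by
    show Limits.pullback.snd q.left p.left ≫ G.hom = Limits.pullback.fst q.left p.left ≫ (mp 𝐁 Z).hom
    rw [← Over.w p, ← Limits.pullback.condition_assoc, Over.w q])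
  have hx : x ≫ p = e ≫ q := Over.OverMorphism.ext Limits.pullback.condition.symm
  haveI : Flat e.left := MorphismProperty.pullback_fst (P := @Flat) _ _ ‹_›
  haveI : Surjective e.left := MorphismProperty.pullback_fst (P := @Surjective) _ _ ‹_›
  haveI : QuasiCompact e.left := MorphismProperty.pullback_fst (P := @QuasiCompact) _ _ ‹_›
  refine fac_of_cover e _ j (((e ≫ g) * x) ≫ p) ?_
  rw [Category.assoc, hj, AlgGrp.Action.comp_orbitMap, AlgGrp.Action.lift_mul_act,
    ← AlgGrp.Action.comp_orbitMap aS x, ← hj, reassoc_of% hx, hq, comp_lift_assoc]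

include hψ in
/-- Over a connected base, everything lies set-theoretically over the orbit of the marked point. -/
theorem range_subset_orbit [PreconnectedSpace X] (hW : NonAbH1.IsTorsorFor Scheme.fpqcPrecoverage aW)
    (w₀ : Spec (CommRingCat.of k) ⟶ W.left) {s₀ : 𝟙_ (Over (Spec (CommRingCat.of k))) ⟶ S}
    (hs₀ : w₀ ≫ ψ.left = s₀.left) {Q : Over (Spec (CommRingCat.of k))} (p : G ⟶ Q) (j : Q ⟶ S)
    [IsClosedImmersion j.left] [Flat p.left] [Surjective p.left]
    [QuasiCompact p.left] (hj : p ≫ j = aS.orbitMap s₀) :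
    Set.range ψ.left ⊆ Set.range j.left := by
  haveI : Mono j := Over.mono_of_mono_left j
  obtain ⟨_, hWflat, hWsurj, hWqc⟩ := torsor_props hW
  haveI : LocallyOfFinitePresentation (Red.bc 𝐁 G).hom :=
    MorphismProperty.pullback_snd (P := @LocallyOfFinitePresentation) _ _ inferInstance
  haveI : LocallyOfFinitePresentation W.hom :=
    Groth.L09.TorsorSch.of_grp @LocallyOfFinitePresentation aW hW inferInstance
  haveI := hWflat
  haveI : DiscreteTopology S.left := by
    haveI : Finite S.left :=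
      Set.finite_univ_iff.mp ((S.hom.finite_preimage_singleton (IsLocalRing.closedPoint k)).subset
        fun s _ => Subsingleton.elim (α := PrimeSpectrum k) _ _)
    haveI : JacobsonSpace S.left := LocallyOfFiniteType.jacobsonSpace S.hom
    infer_instance
  let U : Set W.left := ψ.left ⁻¹' Set.range j.left
  have hUo : IsOpen U := (isOpen_discrete _).preimage ψ.left.continuous
  have hUc : IsOpen Uᶜ := ((isClosed_discrete _).preimage ψ.left.continuous).isOpen_compl
  -- saturation
  have hsat : ∀ w₁ w₂ : W.left, W.hom w₁ = W.hom w₂ → w₂ ∈ U → w₁ ∈ U := by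
    intro w₁ w₂ he h2
    obtain ⟨c, hc1, hc2⟩ := Scheme.Pullback.exists_preimage_pullback (f := W.hom) (g := W.hom) w₁ w₂ he
    let C : Over X := W ⊗ W
    obtain ⟨g, hg⟩ := sm_exists aW hW.1 (snd W W) (fst W W)
    let Z : Over X := Over.mk (Limits.pullback.fst (mpm 𝐁 (snd W W) ≫ ψ).left j.left ≫ C.hom)
    let e : Z ⟶ C := Over.homMk (Limits.pullback.fst (mpm 𝐁 (snd W W) ≫ ψ).left j.left) rfl
    let q : mp 𝐁 Z ⟶ Q := Over.homMk (Limits.pullback.snd (mpm 𝐁 (snd W W) ≫ ψ).left j.left) (by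
      show Limits.pullback.snd (mpm 𝐁 (snd W W) ≫ ψ).left j.left ≫ Q.hom = (Z.hom ≫ 𝐁)
      rw [← Over.w j, ← Limits.pullback.condition_assoc, Over.w (mpm 𝐁 (snd W W) ≫ ψ)]
      exact (Category.assoc _ _ _).symm)
    have hq : q ≫ j = mpm 𝐁 (e ≫ snd W W) ≫ ψ := by
      rw [mpm, Functor.map_comp, Category.assoc]
      exact Over.OverMorphism.ext Limits.pullback.condition.symm
    obtain ⟨q', hq'⟩ := fac_orbit_translate aS aW ψ hψ p j hj (mpm 𝐁 e ≫ g) (e ≫ snd W W) q hq
    rw [← comp_sm, hg] at hq'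
    obtain ⟨v, hv⟩ := h2
    obtain ⟨z, hz, -⟩ := Scheme.Pullback.exists_preimage_pullback (f := (mpm 𝐁 (snd W W) ≫ ψ).left)
      (g := j.left) c v (by
        rw [hv, ← hc2]
        rfl)
    refine ⟨q'.left z, ?_⟩
    have := congrArg (fun m => m.left z) hq'
    simp only [Over.comp_left, Scheme.Hom.comp_apply] at this
    rw [this, ← hc1, ← hz]
    rfl
  have hw₀ : w₀ (IsLocalRing.closedPoint k) ∈ U := by
    refine ⟨(η[G] ≫ p).left (IsLocalRing.closedPoint k), ?_⟩
    have e : (η[G] ≫ p) ≫ j = s₀ := by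
      rw [Category.assoc, hj, AlgGrp.Action.comp_orbitMap,
        show η[G] = (1 : 𝟙_ _ ⟶ G) by rw [Hom.one_def, toUnit_unique (toUnit _) (𝟙 _), Category.id_comp],
        AlgGrp.Action.lift_one_act, toUnit_unique (toUnit _) (𝟙 _), Category.id_comp]
    have := congrArg (fun m => m.left (IsLocalRing.closedPoint k)) e
    simp only [Over.comp_left, Scheme.Hom.comp_apply] at this
    have h0 := congrArg (fun m => m (IsLocalRing.closedPoint k)) hs₀
    simp only [Scheme.Hom.comp_apply] at h0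
    exact this.trans h0.symm
  have hopen := W.hom.isOpenMap
  have hcov : W.hom '' U ∪ W.hom '' Uᶜ = Set.univ := by
    rw [← Set.image_union, Set.union_compl_self, Set.image_univ]
    exact hWsurj.1.range_eq
  have hdisj : W.hom '' U ∩ W.hom '' Uᶜ = ∅ := by
    rw [Set.eq_empty_iff_forall_notMem]
    rintro _ ⟨⟨a, ha, rfl⟩, b, hb, hab⟩
    exact hb (hsat b a hab ha)
  rintro _ ⟨w, rfl⟩
  by_contra hw
  have hboth := PreconnectedSpace.isPreconnected_univ (α := X) _ _ (hopen _ hUo) (hopen _ hUc) (hcov ▸ subset_rfl)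
    ⟨W.hom (w₀ _), Set.mem_univ _, _, hw₀, rfl⟩ ⟨W.hom w, Set.mem_univ _, w, hw, rfl⟩
  rw [hdisj, Set.inter_empty] at hboth
  exact Set.not_nonempty_empty hboth

include hψ in
/-- Every point can be translated over the marked point after a surjection. -/
theorem exists_translate [PreconnectedSpace X] (hW : NonAbH1.IsTorsorFor Scheme.fpqcPrecoverage aW)
    (w₀ : Spec (CommRingCat.of k) ⟶ W.left) {s₀ : 𝟙_ (Over (Spec (CommRingCat.of k))) ⟶ S}
    (hs₀ : w₀ ≫ ψ.left = s₀.left) :
    ∃ (Z : Over X) (e : Z ⟶ W) (z : Z ⟶ W), Surjective e.left ∧ mpm 𝐁 z ≫ ψ = toUnit _ ≫ s₀ := by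
  obtain ⟨H, _, i, _, _, Q, p, j, hjcl, _, hps, _, hj, -⟩ := exists_stab_orbit aS s₀
  have hrange := range_subset_orbit aS aW ψ hψ hW w₀ hs₀ p j hj
  let π : G ⟶ S := p ≫ j
  let Z : Over X := Over.mk (Limits.pullback.fst ψ.left π.left ≫ W.hom)
  let e : Z ⟶ W := Over.homMk (Limits.pullback.fst ψ.left π.left) rfl
  let x : mp 𝐁 Z ⟶ G := Over.homMk (Limits.pullback.snd ψ.left π.left) (by
    show Limits.pullback.snd ψ.left π.left ≫ G.hom = (Z.hom ≫ 𝐁)
    rw [← Over.w π, ← Limits.pullback.condition_assoc, Over.w ψ]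
    exact (Category.assoc _ _ _).symm)
  refine ⟨Z, e, sm aW x⁻¹ e, ⟨fun w => ?_⟩, ?_⟩
  · obtain ⟨v, hv⟩ := hrange ⟨w, rfl⟩
    obtain ⟨g, rfl⟩ := p.left.surjective v
    obtain ⟨z, hz, -⟩ := Scheme.Pullback.exists_preimage_pullback (f := ψ.left) (g := π.left) w g (by
      rw [← hv]; rfl)
    exact ⟨z, hz⟩
  · have hx : mpm 𝐁 e ≫ ψ = x ≫ π := Over.OverMorphism.ext Limits.pullback.condition
    rw [hψ, hx, show π = aS.orbitMap s₀ from hj, AlgGrp.Action.comp_orbitMap, ← AlgGrp.Action.lift_mul_act,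
      inv_mul_cancel, AlgGrp.Action.lift_one_act]

include hψ in
/-- Over a connected reduced base the points over the marked point form a torsor under the stabilizer. -/
theorem exists_stab_torsor [PreconnectedSpace X] [IsReduced X]
    (hW : NonAbH1.IsTorsorFor Scheme.fpqcPrecoverage aW)
    (w₀ : Spec (CommRingCat.of k) ⟶ W.left) {s₀ : 𝟙_ (Over (Spec (CommRingCat.of k))) ⟶ S}
    (hs₀ : w₀ ≫ ψ.left = s₀.left) :
    ∃ (H : Over (Spec (CommRingCat.of k))) (_ : GrpObj H) (i : H ⟶ G) (_ : IsMonHom i)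
      (_ : IsClosedImmersion i.left) (V : Over X) (v : V ⟶ W) (_ : IsClosedImmersion v.left)
      (b : AlgGrp.Action (Red.bc 𝐁 H) V),
      NonAbH1.IsTorsorFor Scheme.fpqcPrecoverage b ∧
      AlgGrp.Action.IsEquivariant b (aW.restrict ((Over.pullback 𝐁).map i)) v ∧
      mpm 𝐁 v ≫ ψ = toUnit _ ≫ s₀ ∧
      (∀ (Z : Over X) (z : Z ⟶ W), mpm 𝐁 z ≫ ψ = toUnit _ ≫ s₀ → ∃ z' : Z ⟶ V, z' ≫ v = z) ∧
      (∀ (Z : Over (Spec (CommRingCat.of k))) (g : Z ⟶ G),
        (∃ h : Z ⟶ H, h ≫ i = g) ↔ lift g (toUnit Z ≫ s₀) ≫ aS.act = toUnit Z ≫ s₀) := by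
  obtain ⟨H, _, i, _, hicl, Q, p, j, hjcl, _, _, _, hj, memH⟩ := exists_stab_orbit aS s₀
  haveI : Mono i := Over.mono_of_mono_left i
  haveI : Mono j := Over.mono_of_mono_left j
  have hrange := range_subset_orbit aS aW ψ hψ hW w₀ hs₀ p j hj
  obtain ⟨_, hWflat, hWsurj, hWqc⟩ := torsor_props hW
  haveI := hWflat
  haveI := hWqc
  haveI := hWsurj
  -- `ψ` factors through the orbit: check after a schematically dominant cover with a section
  obtain ⟨ψ', hψ'⟩ : ∃ ψ' : mp 𝐁 W ⟶ Q, ψ' ≫ j = ψ := by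
    let I : W.left.IdealSheafData := Scheme.IdealSheafData.vanishingIdeal (X := W.left) ⊤
    haveI : IsReduced I.subscheme := Groth.L18.isReduced_vanishingIdeal_subscheme _
    haveI : Surjective I.subschemeι :=
      ⟨Set.range_eq_univ.1 ((Scheme.IdealSheafData.range_subschemeι _).trans (by simp [I]))⟩
    let R : Over X := Over.mk (I.subschemeι ≫ W.hom)
    let ιR : R ⟶ W := Over.homMk I.subschemeι rfl
    haveI : IsReduced R.left := ‹IsReduced I.subscheme›
    obtain ⟨l, hl⟩ := Groth.L19.exists_lift_of_isImmersion j.left (ιR.left ≫ ψ.left) (by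
      rintro _ ⟨r, rfl⟩
      exact hrange ⟨ιR.left r, rfl⟩)
    let qR : mp 𝐁 R ⟶ Q := Over.homMk l (by
      show l ≫ Q.hom = (R.hom ≫ 𝐁)
      rw [← Over.w j, reassoc_of% hl, Over.w ψ]
      exact (Category.assoc _ _ _).symm)
    have hqR : qR ≫ j = mpm 𝐁 ιR ≫ ψ := Over.OverMorphism.ext hl
    obtain ⟨g, hg⟩ := sm_exists aW hW.1 (fst R W ≫ ιR) (snd R W)
    obtain ⟨q', hq'⟩ := fac_orbit_translate aS aW ψ hψ p j hj g (fst R W ≫ ιR) (mpm 𝐁 (fst R W) ≫ qR) (by
      rw [Category.assoc, hqR, mpm, mpm, mpm, Functor.map_comp, Category.assoc])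
    rw [hg] at hq'
    haveI : Surjective R.hom := inferInstanceAs (Surjective (I.subschemeι ≫ W.hom))
    haveI : QuasiCompact R.hom := inferInstanceAs (QuasiCompact (I.subschemeι ≫ W.hom))
    haveI : IsSchemeTheoreticallyDominant R.hom := .of_isDominant R.hom
    haveI : IsSchemeTheoreticallyDominant (snd R W).left :=
      inferInstanceAs (IsSchemeTheoreticallyDominant (Limits.pullback.snd R.hom W.hom))
    let ιp := Limits.pullback.fst ψ.left j.left
    let m : (R ⊗ W).left ⟶ Limits.pullback ψ.left j.left :=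
      Limits.pullback.lift (snd R W).left q'.left (congrArg CommaMorphism.left hq').symm
    haveI : IsIso ιp := by
      rw [IsClosedImmersion.isIso_iff_ker_eq_bot, eq_bot_iff, ← (snd R W).left.ker_eq_bot,
        ← Limits.pullback.lift_fst (f := ψ.left) (g := j.left) (snd R W).left q'.left
          (congrArg CommaMorphism.left hq').symm]
      exact Scheme.Hom.le_ker_comp _ _
    refine ⟨Over.homMk (inv ιp ≫ Limits.pullback.snd ψ.left j.left) ?_, ?_⟩
    · show (inv ιp ≫ Limits.pullback.snd ψ.left j.left) ≫ Q.hom = _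
      rw [Category.assoc, IsIso.inv_comp_eq, ← Over.w ψ, ← Over.w j]
      exact (Limits.pullback.condition_assoc S.hom).symm
    · apply Over.OverMorphism.ext
      show (inv ιp ≫ Limits.pullback.snd ψ.left j.left) ≫ j.left = ψ.left
      rw [Category.assoc, IsIso.inv_comp_eq, Limits.pullback.condition]
  -- the points over the marked point
  haveI : IsClosedImmersion (s₀.left ≫ S.hom) := by
    rw [Over.w s₀]
    exact inferInstanceAs (IsClosedImmersion (𝟙 _))
  haveI : IsClosedImmersion s₀.left := IsClosedImmersion.of_comp s₀.left S.hom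
  let V : Over X := Over.mk (Limits.pullback.fst ψ.left s₀.left ≫ W.hom)
  let v : V ⟶ W := Over.homMk (Limits.pullback.fst ψ.left s₀.left) rfl
  haveI hvcl : IsClosedImmersion v.left :=
    inferInstanceAs (IsClosedImmersion (Limits.pullback.fst ψ.left s₀.left))
  haveI : Mono v := Over.mono_of_mono_left v
  have hv : mpm 𝐁 v ≫ ψ = toUnit _ ≫ s₀ := by
    apply Over.OverMorphism.ext
    show Limits.pullback.fst ψ.left s₀.left ≫ ψ.left = (toUnit (mp 𝐁 V)).left ≫ s₀.left
    rw [Limits.pullback.condition]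
    congr 1
    show _ = (mp 𝐁 V).hom
    have h1 : s₀.left ≫ S.hom = 𝟙 _ := Over.w s₀
    calc Limits.pullback.snd ψ.left s₀.left
        = Limits.pullback.snd ψ.left s₀.left ≫ s₀.left ≫ S.hom := by rw [h1]; exact (Category.comp_id _).symm
      _ = Limits.pullback.fst ψ.left s₀.left ≫ ψ.left ≫ S.hom := by rw [Limits.pullback.condition_assoc]
      _ = _ := by rw [Over.w ψ]; exact (Category.assoc _ _ _).symm
  have memV : ∀ (Z : Over X) (z : Z ⟶ W), mpm 𝐁 z ≫ ψ = toUnit _ ≫ s₀ → ∃ z' : Z ⟶ V, z' ≫ v = z := by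
    intro Z z hz
    refine ⟨Over.homMk (Limits.pullback.lift z.left (toUnit (mp 𝐁 Z)).left (congrArg CommaMorphism.left hz)) ?_,
      Over.OverMorphism.ext (Limits.pullback.lift_fst _ _ _)⟩
    show Limits.pullback.lift _ _ _ ≫ Limits.pullback.fst ψ.left s₀.left ≫ W.hom = Z.hom
    rw [Limits.pullback.lift_fst_assoc, Over.w z]
  have good : ∀ (Z : Over X) (h : mp 𝐁 Z ⟶ H) (z : Z ⟶ V), ∃ z' : Z ⟶ V, z' ≫ v = sm aW (h ≫ i) (z ≫ v) := by
    intro Z h z
    refine memV Z _ ?_
    rw [hψ, show mpm 𝐁 (z ≫ v) ≫ ψ = toUnit _ ≫ s₀ by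
      rw [mpm, Functor.map_comp, Category.assoc, hv, ← Category.assoc, toUnit_unique (mpm 𝐁 z ≫ toUnit _) (toUnit _)]]
    exact (memH _ _).1 ⟨h, rfl⟩
  choose fact hfact using good
  obtain ⟨b, hb⟩ := exists_action (T := V) fact
    (fun Z Z' f h z => by
      rw [← cancel_mono v, Category.assoc, hfact, hfact, comp_sm, Category.assoc, Category.assoc])
    (fun Z z => by rw [← cancel_mono v, hfact, MonObj.one_comp, sm_one])
    (fun Z g g' z => by rw [← cancel_mono v, hfact, hfact, hfact, MonObj.mul_comp, sm_mul])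
  have hpseudo : NonAbH1.IsPseudoTorsorSch b := by
    refine pseudo_of_sm b (fun Z z z' => ?_) (fun Z g g' z e => ?_)
    · obtain ⟨g, hg⟩ := sm_exists aW hW.1 (z ≫ v) (z' ≫ v)
      have hzv : ∀ w : Z ⟶ V, mpm 𝐁 (w ≫ v) ≫ ψ = toUnit _ ≫ s₀ := fun w => by
        rw [mpm, Functor.map_comp, Category.assoc, hv, ← Category.assoc,
          toUnit_unique (mpm 𝐁 w ≫ toUnit _) (toUnit _)]
      have e := congrArg (fun m => mpm 𝐁 m ≫ ψ) hg
      rw [hψ, hzv, hzv] at e
      obtain ⟨h, rfl⟩ := (memH _ g).2 e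
      exact ⟨h, by rw [← cancel_mono v, hb, hfact, hg]⟩
    · have e' := congrArg (· ≫ v) e
      simp only [hb, hfact] at e'
      exact (cancel_mono i).1 (sm_inj aW hW.1 e')
  let Zc : Over X := Over.mk (Limits.pullback.fst ψ'.left p.left ≫ W.hom)
  let e : Zc ⟶ W := Over.homMk (Limits.pullback.fst ψ'.left p.left) rfl
  let x : mp 𝐁 Zc ⟶ G := Over.homMk (Limits.pullback.snd ψ'.left p.left) (by
    show Limits.pullback.snd ψ'.left p.left ≫ G.hom = (Zc.hom ≫ 𝐁)
    rw [← Over.w p, ← Limits.pullback.condition_assoc, Over.w ψ']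
    exact (Category.assoc _ _ _).symm)
  have hx : mpm 𝐁 e ≫ ψ = x ≫ aS.orbitMap s₀ := by
    rw [← hj, ← hψ', ← Category.assoc, ← Category.assoc]
    congr 1
    exact Over.OverMorphism.ext Limits.pullback.condition
  obtain ⟨z₀, hz₀⟩ := memV Zc (sm aW x⁻¹ e) (by
    rw [hψ, hx, AlgGrp.Action.comp_orbitMap, ← AlgGrp.Action.lift_mul_act, inv_mul_cancel,
      AlgGrp.Action.lift_one_act])
  haveI : Flat (Limits.pullback.fst ψ'.left p.left) := MorphismProperty.pullback_fst (P := @Flat) _ _ ‹_›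
  haveI : Surjective (Limits.pullback.fst ψ'.left p.left) :=
    MorphismProperty.pullback_fst (P := @Surjective) _ _ ‹_›
  haveI : QuasiCompact (Limits.pullback.fst ψ'.left p.left) :=
    MorphismProperty.pullback_fst (P := @QuasiCompact) _ _ ‹_›
  haveI : Flat Zc.hom := inferInstanceAs (Flat (Limits.pullback.fst ψ'.left p.left ≫ W.hom))
  haveI : Surjective Zc.hom := inferInstanceAs (Surjective (Limits.pullback.fst ψ'.left p.left ≫ W.hom))
  haveI : QuasiCompact Zc.hom := inferInstanceAs (QuasiCompact (Limits.pullback.fst ψ'.left p.left ≫ W.hom))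
  exact ⟨H, inferInstance, i, inferInstance, hicl, V, v, hvcl, b,
    ⟨hpseudo, Presieve.singleton Zc.hom, Scheme.Hom.singleton_mem_fpqcPrecoverage _,
      fun S' f' hf' => by obtain ⟨⟩ := hf'; exact ⟨z₀.left, Over.w z₀⟩⟩,
    (equivariant_iff aW v i).2 fun Z h z => by rw [hb, hfact], hv, memV, memH⟩

end Torsor

end Groth.L19.Nori
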