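import Groth.Agent.L19.Nori.Basic
import Groth.Agent.L08.FactorLocus
import Groth.Agent.L08.SubgroupObj
import Mathlib.AlgebraicGeometry.Morphisms.FlatDescent

/-!
# Schematically dominant classifying homomorphisms give Nori-reduced torsors

The sub-torsor `V` under `H` need not pass through the marked point.  With `C` the fibre of `V` over
the base point and `γ : C ⟶ G` its position relative to the marked point `t`, the points `g` with
`γ g γ⁻¹ ∈ H` form a closed subgroup `S` and the points `z` with `γ • z ∈ V` an `S`-torsor through `t`.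
-/

set_option autoImplicit false
set_option linter.style.haveILetI false
set_option linter.unusedSectionVars false
set_option backward.isDefEq.respectTransparency.types false
set_option backward.isDefEq.respectTransparency false

universe u

open CategoryTheory MonoidalCategory CartesianMonoidalCategory MonObj AlgebraicGeometry

namespace Groth.L19.Nori

/-- A monomorphism through which a faithfully flat quasi-compact morphism factors is an isomorphism. -/
theorem isIso_of_fac {W Y Z : Scheme.{u}} (q : W ⟶ Y) [Flat q] [Surjective q] [QuasiCompact q] (i : Z ⟶ Y)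
    [Mono i] (w : W ⟶ Z) (h : w ≫ i = q) : IsIso i := by
  have hiso : IsIso (Limits.pullback.fst q i) := by
    haveI : IsSplitEpi (Limits.pullback.fst q i) :=
      IsSplitEpi.mk' ⟨Limits.pullback.lift (𝟙 W) w (by rw [Category.id_comp, h]), Limits.pullback.lift_fst _ _ _⟩
    exact isIso_of_mono_of_isSplitEpi _
  exact MorphismProperty.of_isPullback_of_descendsAlong (P := MorphismProperty.isomorphisms Scheme.{u})
    (Q := @Surjective ⊓ @Flat ⊓ @QuasiCompact) (IsPullback.of_hasPullback q i)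
    ⟨⟨‹_›, ‹_›⟩, ‹_›⟩ hiso

variable {k : Type u} [Field k] {X : Scheme.{u}} [X.Over (Spec (CommRingCat.of k))]

local notation "𝐁" => (X ↘ Spec (CommRingCat.of k))

variable {x : Spec (CommRingCat.of k) ⟶ X} {πN : Over (Spec (CommRingCat.of k))} [GrpObj πN] {P : Over X}
  {a : AlgGrp.Action (Red.bc (X ↘ Spec (CommRingCat.of k)) πN) P} {p : Spec (CommRingCat.of k) ⟶ P.left}

/-- A `k`-scheme regarded as an `X`-scheme through the point `x`. -/
noncomputable abbrev atPt (x : Spec (CommRingCat.of k) ⟶ X) (S : Over (Spec (CommRingCat.of k))) : Over X := Over.mk (S.hom ≫ x)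

theorem mp_atPt_hom (hx : x ≫ 𝐁 = 𝟙 _) (S : Over (Spec (CommRingCat.of k))) : (mp 𝐁 (atPt x S)).hom = S.hom := by
  show (S.hom ≫ x) ≫ 𝐁 = S.hom
  rw [Category.assoc, hx, Category.comp_id]

/-- A pointed finite torsor with schematically dominant classifying homomorphism is Nori-reduced. -/
theorem isNoriReduced_of_ker_bot (hx : x ≫ 𝐁 = 𝟙 _) (hP : NoriFGS.IsFGS x πN a p)
    {G : Over (Spec (CommRingCat.of k))} [GrpObj G] [IsFinite G.hom] {T : Over X}
    {b : AlgGrp.Action (Red.bc 𝐁 G) T} {t : Spec (CommRingCat.of k) ⟶ T.left}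
    (hb : NonAbH1.IsTorsorFor Scheme.fpqcPrecoverage b) (ht : t ≫ T.hom = x)
    {χ : πN ⟶ G} [IsMonHom χ] {f : P ⟶ T} (hf : NoriFGS.IsPtTorsorHom a p b t χ f) (hker : χ.left.ker = ⊥) :
    NoriFGS.IsNoriReduced Scheme.fpqcPrecoverage b := by
  intro H _ i _ _ V j _ c hc hj
  haveI : IsFinite H.hom := by rw [← Over.w i]; infer_instance
  haveI : Mono i := Over.mono_of_mono_left i
  haveI : Mono j := Over.mono_of_mono_left j
  have hje := (equivariant_iff b j i).1 hj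
  obtain ⟨haff, hVflat, hVsurj, hVqc⟩ := torsor_props hc
  -- the fibre of `V` over the base point
  let C : Over (Spec (CommRingCat.of k)) := Over.mk (Limits.pullback.snd V.hom x)
  let Zc : Over X := atPt x C
  let v : Zc ⟶ V := Over.homMk (Limits.pullback.fst V.hom x) Limits.pullback.condition
  let tC : Zc ⟶ T := Over.homMk (C.hom ≫ t) (by show (C.hom ≫ t) ≫ T.hom = C.hom ≫ x; rw [Category.assoc, ht])
  obtain ⟨γ0, hγ0⟩ := sm_exists b hb.1 tC (v ≫ j)
  let γ : C ⟶ G := Over.homMk γ0.left (by rw [Over.w γ0]; exact mp_atPt_hom hx C)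
  -- two points of the fibre differ by `H`
  have hC2 : ∀ (W : Over (Spec (CommRingCat.of k))) (c₁ c₂ : W ⟶ C),
      ∃ h : W ⟶ H, h ≫ i = (c₂ ≫ γ) * (c₁ ≫ γ)⁻¹ := by
    intro W c₁ c₂
    let e : mp 𝐁 (atPt x W) ⟶ W := Over.homMk (𝟙 W.left) ((Category.id_comp _).trans ((mp_atPt_hom hx W).symm))
    let e' : W ⟶ mp 𝐁 (atPt x W) := Over.homMk (𝟙 W.left) ((Category.id_comp _).trans (mp_atPt_hom hx W))
    let u₁ : atPt x W ⟶ Zc := Over.homMk c₁.left (by show c₁.left ≫ C.hom ≫ x = W.hom ≫ x; rw [Over.w_assoc c₁])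
    let u₂ : atPt x W ⟶ Zc := Over.homMk c₂.left (by show c₂.left ≫ C.hom ≫ x = W.hom ≫ x; rw [Over.w_assoc c₂])
    obtain ⟨h, hh⟩ := sm_exists c hc.1 (u₁ ≫ v) (u₂ ≫ v)
    have e1 : mpm 𝐁 u₁ ≫ γ0 = e ≫ c₁ ≫ γ := Over.OverMorphism.ext (by simp [mpm, u₁, e, γ])
    have e2 : mpm 𝐁 u₂ ≫ γ0 = e ≫ c₂ ≫ γ := Over.OverMorphism.ext (by simp [mpm, u₂, e, γ])
    have et : u₁ ≫ tC = u₂ ≫ tC := Over.OverMorphism.ext (by simp [u₁, u₂, tC, Over.w_assoc])
    have k1 := congrArg (u₁ ≫ ·) hγ0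
    have k2 := congrArg (u₂ ≫ ·) hγ0
    simp only [comp_sm, e1, e2] at k1 k2
    have k3 := congrArg (· ≫ j) hh
    simp only [hje, Category.assoc] at k3
    rw [← k1, ← k2, ← sm_mul, et] at k3
    have k4 := sm_inj b hb.1 k3
    refine ⟨e' ≫ h, ?_⟩
    have k5 : h ≫ i = e ≫ ((c₂ ≫ γ) * (c₁ ≫ γ)⁻¹) := by
      rw [MonObj.comp_mul, GrpObj.comp_inv]
      exact eq_mul_inv_of_mul_eq k4
    rw [Category.assoc, k5, ← Category.assoc, show e' ≫ e = 𝟙 W from Over.OverMorphism.ext (Category.id_comp _),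
      Category.id_comp]
  -- the subgroup
  let cj : C ⊗ G ⟶ G := (fst C G ≫ γ) * snd C G * (fst C G ≫ γ)⁻¹
  obtain ⟨Sg, s, hscl, hs⟩ := Groth.L08.FactorLocus.exists_closedImmersion_lands cj i
  haveI := hscl
  haveI : Mono s := Over.mono_of_mono_left s
  have memS : ∀ (Z : Over (Spec (CommRingCat.of k))) (g : Z ⟶ G),
      (∃ z : Z ⟶ Sg, z ≫ s = g) ↔ ∀ (W : Over (Spec (CommRingCat.of k))) (h : W ⟶ Z) (pc : W ⟶ C),
        ∃ w : W ⟶ H, w ≫ i = (pc ≫ γ) * (h ≫ g) * (pc ≫ γ)⁻¹ := by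
    intro Z g
    rw [hs Z g]
    constructor
    · rintro ⟨w, hw⟩ W h pc
      refine ⟨lift pc h ≫ w, ?_⟩
      rw [Category.assoc, hw]
      simp [cj, MonObj.comp_mul, GrpObj.comp_inv]
    · intro hall
      obtain ⟨w, hw⟩ := hall _ (snd C Z) (fst C Z)
      refine ⟨w, ?_⟩
      rw [hw]
      simp [cj, MonObj.comp_mul, GrpObj.comp_inv]
  obtain ⟨grpS, homS⟩ := Groth.L08.exists_grpObj_of_mono s
    ((memS _ _).2 fun W h pc => ⟨1, by
      rw [MonObj.one_comp, show η[G] = (1 : 𝟙_ _ ⟶ G) by rw [Hom.one_def, toUnit_unique (toUnit _) (𝟙 _), Category.id_comp],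
        MonObj.comp_one, _root_.mul_one, mul_inv_cancel]⟩)
    ((memS _ _).2 fun W h pc => by
      obtain ⟨w₁, hw₁⟩ := (memS _ _).1 ⟨h ≫ fst Sg Sg, rfl⟩ W (𝟙 W) pc
      obtain ⟨w₂, hw₂⟩ := (memS _ _).1 ⟨h ≫ snd Sg Sg, rfl⟩ W (𝟙 W) pc
      refine ⟨w₁ * w₂, ?_⟩
      rw [MonObj.mul_comp, hw₁, hw₂, MonObj.comp_mul]
      simp only [Category.id_comp, Category.assoc]
      group)
    ((memS _ _).2 fun W h pc => by
      obtain ⟨w₁, hw₁⟩ := (memS _ _).1 ⟨h, rfl⟩ W (𝟙 W) pc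
      refine ⟨w₁⁻¹, ?_⟩
      rw [GrpObj.inv_comp, hw₁, GrpObj.comp_inv, Category.id_comp]
      group)
  letI := grpS
  haveI := homS
  haveI : IsFinite Sg.hom := by rw [← Over.w s]; infer_instance
  -- the sub-torsor through the marked point
  let CT : Over X := Over.mk ((snd C (mp 𝐁 T)).left ≫ T.hom)
  let prT : CT ⟶ T := Over.homMk (snd C (mp 𝐁 T)).left rfl
  have hCT : (mp 𝐁 CT).hom = (C ⊗ mp 𝐁 T).hom := by
    rw [← Over.w (snd C (mp 𝐁 T))]
    exact Category.assoc _ _ _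
  let qT : mp 𝐁 CT ⟶ C ⊗ mp 𝐁 T := Over.homMk (𝟙 _) ((Category.id_comp _).trans (hCT.symm))
  let qT' : C ⊗ mp 𝐁 T ⟶ mp 𝐁 CT := Over.homMk (𝟙 _) ((Category.id_comp _).trans (hCT))
  let c0 : CT ⟶ T := sm b ((qT ≫ fst C (mp 𝐁 T)) ≫ γ) prT
  haveI : IsClosedImmersion (mpm 𝐁 j).left := ‹IsClosedImmersion j.left›
  obtain ⟨V0, j0, hj0cl, hV0⟩ := Groth.L08.FactorLocus.exists_closedImmersion_lands (qT' ≫ mpm 𝐁 c0) (mpm 𝐁 j)
  haveI := hj0cl
  let V' : Over X := Over.mk (j0.left ≫ T.hom)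
  let j' : V' ⟶ T := Over.homMk j0.left rfl
  haveI : IsClosedImmersion j'.left := hj0cl
  haveI : Mono j' := Over.mono_of_mono_left j'
  have memV : ∀ (Z : Over X) (z : Z ⟶ T), (∃ z' : Z ⟶ V', z' ≫ j' = z) ↔
      ∀ (W : Over X) (h : W ⟶ Z) (pc : mp 𝐁 W ⟶ C), ∃ w : W ⟶ V, w ≫ j = sm b (pc ≫ γ) (h ≫ z) := by
    intro Z z
    have hiff : (∃ z' : Z ⟶ V', z' ≫ j' = z) ↔ ∃ z' : mp 𝐁 Z ⟶ V0, z' ≫ j0 = mpm 𝐁 z := by
      constructor
      · rintro ⟨z', hz'⟩
        refine ⟨Over.homMk z'.left ?_, Over.OverMorphism.ext ((congrArg CommaMorphism.left hz' :))⟩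
        show z'.left ≫ V0.hom = Z.hom ≫ 𝐁
        rw [← Over.w z', ← Over.w j0]
        show z'.left ≫ j0.left ≫ T.hom ≫ 𝐁 = (z'.left ≫ j0.left ≫ T.hom) ≫ 𝐁
        simp only [Category.assoc]
      · rintro ⟨z', hz'⟩
        have hz'' : z'.left ≫ j0.left = z.left := congrArg CommaMorphism.left hz'
        refine ⟨Over.homMk z'.left ?_, Over.OverMorphism.ext hz''⟩
        show z'.left ≫ j0.left ≫ T.hom = Z.hom
        rw [reassoc_of% hz'', Over.w z]
    rw [hiff, hV0]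
    constructor
    · rintro ⟨w, hw⟩ W h pc
      let u : mp 𝐁 W ⟶ C ⊗ mp 𝐁 Z := lift pc (mpm 𝐁 h)
      let uT : W ⟶ CT := Over.homMk (u ≫ (C ◁ mpm 𝐁 z)).left (by
        show (u ≫ (C ◁ mpm 𝐁 z)).left ≫ (snd C (mp 𝐁 T)).left ≫ T.hom = W.hom
        rw [← Over.comp_left_assoc]
        simp [u, mpm])
      have eu : mpm 𝐁 uT ≫ qT ≫ fst C (mp 𝐁 T) = pc := by
        rw [← Category.assoc (mpm 𝐁 uT), show mpm 𝐁 uT ≫ qT = u ≫ (C ◁ mpm 𝐁 z) from
          Over.OverMorphism.ext (by simp [mpm, uT, qT])]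
        simp [u]
      have ep : uT ≫ prT = h ≫ z := by
        apply Over.OverMorphism.ext
        show (u ≫ (C ◁ mpm 𝐁 z)).left ≫ (snd C (mp 𝐁 T)).left = _
        rw [← Over.comp_left]
        simp [u, mpm]
      have ec : uT ≫ c0 = sm b (pc ≫ γ) (h ≫ z) := by
        rw [comp_sm, ep, ← Category.assoc, eu]
      have hw' := congrArg (fun m => (u ≫ m).left) hw
      have el : (u ≫ w).left ≫ j.left = (uT ≫ c0).left := by
        have := hw'
        simp [mpm, uT, qT'] at this ⊢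
        exact this
      refine ⟨Over.homMk (u ≫ w).left ?_, Over.OverMorphism.ext (el.trans (congrArg CommaMorphism.left ec))⟩
      show (u ≫ w).left ≫ V.hom = W.hom
      rw [← Over.w j, reassoc_of% el, Over.w (uT ≫ c0)]
    · intro hall
      let W : Over X := Over.mk ((snd C (mp 𝐁 Z)).left ≫ Z.hom)
      have hWhom : (mp 𝐁 W).hom = (C ⊗ mp 𝐁 Z).hom := by
        rw [← Over.w (snd C (mp 𝐁 Z))]
        exact Category.assoc _ _ _
      let q : mp 𝐁 W ⟶ C ⊗ mp 𝐁 Z := Over.homMk (𝟙 _) ((Category.id_comp _).trans (hWhom.symm))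
      let q' : C ⊗ mp 𝐁 Z ⟶ mp 𝐁 W := Over.homMk (𝟙 _) ((Category.id_comp _).trans (hWhom))
      let h : W ⟶ Z := Over.homMk (snd C (mp 𝐁 Z)).left rfl
      obtain ⟨w, hw⟩ := hall W h (q ≫ fst C (mp 𝐁 Z))
      let uT : W ⟶ CT := Over.homMk (C ◁ mpm 𝐁 z).left (by
        show (C ◁ mpm 𝐁 z).left ≫ (snd C (mp 𝐁 T)).left ≫ T.hom = (snd C (mp 𝐁 Z)).left ≫ Z.hom
        rw [← Over.comp_left_assoc, whiskerLeft_snd]
        simp [mpm])
      have eu : mpm 𝐁 uT ≫ qT ≫ fst C (mp 𝐁 T) = q ≫ fst C (mp 𝐁 Z) := by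
        rw [← Category.assoc (mpm 𝐁 uT), show mpm 𝐁 uT ≫ qT = q ≫ (C ◁ mpm 𝐁 z) from
          Over.OverMorphism.ext (by simp [mpm, uT, qT, q]), Category.assoc, whiskerLeft_fst]
      have ep : uT ≫ prT = h ≫ z := by
        apply Over.OverMorphism.ext
        show (C ◁ mpm 𝐁 z).left ≫ (snd C (mp 𝐁 T)).left = _
        rw [← Over.comp_left, whiskerLeft_snd]
        simp [h, mpm]
      have ec : uT ≫ c0 = w ≫ j := by
        rw [hw, comp_sm, ep, ← Category.assoc, eu]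
      refine ⟨q' ≫ mpm 𝐁 w, ?_⟩
      apply Over.OverMorphism.ext
      have el := congrArg CommaMorphism.left ec
      simp [mpm, q', qT', uT] at el ⊢
      exact el.symm
  -- the action
  have good : ∀ (Z : Over X) (g : mp 𝐁 Z ⟶ Sg) (z : Z ⟶ V'), ∃ z' : Z ⟶ V', z' ≫ j' = sm b (g ≫ s) (z ≫ j') := by
    intro Z g z
    refine (memV _ _).2 fun W h pc => ?_
    obtain ⟨w, hw⟩ := (memV _ _).1 ⟨z, rfl⟩ W h pc
    obtain ⟨w', hw'⟩ := (memS _ _).1 ⟨g, rfl⟩ _ (mpm 𝐁 h) pc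
    refine ⟨sm c w' w, ?_⟩
    rw [hje, hw, hw', ← sm_mul, comp_sm, ← sm_mul]
    simp only [inv_mul_cancel_right]
  choose fact hfact using good
  obtain ⟨b', hb'⟩ := exists_action (T := V') fact
    (fun Z Z' h g z => by
      rw [← cancel_mono j', Category.assoc, hfact, hfact, comp_sm, Category.assoc, Category.assoc])
    (fun Z z => by rw [← cancel_mono j', hfact, MonObj.one_comp, sm_one])
    (fun Z g g' z => by rw [← cancel_mono j', hfact, hfact, hfact, MonObj.mul_comp, sm_mul])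
  have hj' : AlgGrp.Action.IsEquivariant b' (b.restrict ((Over.pullback 𝐁).map s)) j' :=
    (equivariant_iff b j' s).2 fun Z g z => by rw [hb', hfact]
  have hpseudo : NonAbH1.IsPseudoTorsorSch b' := by
    refine pseudo_of_sm b' (fun Z z z' => ?_) (fun Z g g' z e => ?_)
    · obtain ⟨g, hg⟩ := sm_exists b hb.1 (z ≫ j') (z' ≫ j')
      suffices ∃ g' : mp 𝐁 Z ⟶ Sg, g' ≫ s = g by
        obtain ⟨g', rfl⟩ := this
        exact ⟨g', by rw [← cancel_mono j', hb', hfact, hg]⟩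
      refine (memS _ _).2 fun W h pc => ?_
      let W' : Over X := Over.mk (h.left ≫ Z.hom)
      have hW' : (mp 𝐁 W').hom = W.hom := (Category.assoc _ _ _).trans (Over.w h)
      let h' : W' ⟶ Z := Over.homMk h.left rfl
      let e : mp 𝐁 W' ⟶ W := Over.homMk (𝟙 W.left) ((Category.id_comp _).trans (hW'.symm))
      let e' : W ⟶ mp 𝐁 W' := Over.homMk (𝟙 W.left) ((Category.id_comp _).trans (hW'))
      obtain ⟨w₁, hw₁⟩ := (memV _ _).1 ⟨z, rfl⟩ W' h' (e ≫ pc)
      obtain ⟨w₂, hw₂⟩ := (memV _ _).1 ⟨z', rfl⟩ W' h' (e ≫ pc)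
      obtain ⟨hh, hhh⟩ := sm_exists c hc.1 w₁ w₂
      have k3 := congrArg (· ≫ j) hhh
      simp only [hje] at k3
      rw [hw₁, hw₂, ← hg, comp_sm, ← sm_mul, ← sm_mul] at k3
      have k4 := sm_inj b hb.1 k3
      refine ⟨e' ≫ hh, ?_⟩
      have k5 : hh ≫ i = e ≫ ((pc ≫ γ) * (h ≫ g) * (pc ≫ γ)⁻¹) := by
        have ee : e ≫ h = mpm 𝐁 h' := Over.OverMorphism.ext (Category.id_comp _)
        rw [MonObj.comp_mul, MonObj.comp_mul, GrpObj.comp_inv, ← Category.assoc e h, ee, ← Category.assoc e pc]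
        exact eq_mul_inv_of_mul_eq k4
      rw [Category.assoc, k5, ← Category.assoc, show e' ≫ e = 𝟙 W from Over.OverMorphism.ext (Category.id_comp _),
        Category.id_comp]
    · have e' := congrArg (· ≫ j') e
      simp only [hb', hfact] at e'
      exact (cancel_mono s).1 (sm_inj b hb.1 e')
  -- local triviality
  let W : Over X := Over.mk ((snd C (mp 𝐁 V)).left ≫ V.hom)
  have hWhom : (mp 𝐁 W).hom = (C ⊗ mp 𝐁 V).hom := by
    rw [← Over.w (snd C (mp 𝐁 V))]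
    exact Category.assoc _ _ _
  let pC : mp 𝐁 W ⟶ C :=
    (Over.homMk (𝟙 _) ((Category.id_comp _).trans hWhom.symm) : mp 𝐁 W ⟶ C ⊗ mp 𝐁 V) ≫ fst C (mp 𝐁 V)
  let pV : W ⟶ V := Over.homMk (snd C (mp 𝐁 V)).left rfl
  obtain ⟨z₀, hz₀⟩ := (memV W (sm b (pC ≫ γ)⁻¹ (pV ≫ j))).2 fun W' h pc => by
    obtain ⟨hh, hhh⟩ := hC2 _ (mpm 𝐁 h ≫ pC) pc
    refine ⟨sm c hh (h ≫ pV), ?_⟩
    rw [hje, comp_sm, ← sm_mul, hhh, GrpObj.comp_inv]
    simp only [Category.assoc]
  haveI := haff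
  haveI := hVflat
  haveI := hVsurj
  haveI : Surjective C.hom := MorphismProperty.pullback_snd (P := @Surjective) _ _ hVsurj
  haveI : QuasiCompact C.hom := MorphismProperty.pullback_snd (P := @QuasiCompact) _ _ hVqc
  haveI : Flat C.hom := flat_over_field C
  haveI hsnd : ∀ Y : Over (Spec (CommRingCat.of k)),
      Flat (snd C Y).left ∧ Surjective (snd C Y).left ∧ QuasiCompact (snd C Y).left := fun Y =>
    ⟨MorphismProperty.pullback_snd (P := @Flat) C.hom Y.hom inferInstance,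
      MorphismProperty.pullback_snd (P := @Surjective) C.hom Y.hom inferInstance,
      MorphismProperty.pullback_snd (P := @QuasiCompact) C.hom Y.hom inferInstance⟩
  obtain ⟨f1, f2, f3⟩ := hsnd (mp 𝐁 V)
  haveI := f1; haveI := f2; haveI := f3
  haveI : Flat W.hom := inferInstanceAs (Flat ((snd C (mp 𝐁 V)).left ≫ V.hom))
  haveI : Surjective W.hom := inferInstanceAs (Surjective ((snd C (mp 𝐁 V)).left ≫ V.hom))
  haveI : QuasiCompact W.hom := inferInstanceAs (QuasiCompact ((snd C (mp 𝐁 V)).left ≫ V.hom))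
  have htors : NonAbH1.IsTorsorFor Scheme.fpqcPrecoverage b' :=
    ⟨hpseudo, Presieve.singleton W.hom, Scheme.Hom.singleton_mem_fpqcPrecoverage _,
      fun S' f' hf' => by obtain ⟨⟩ := hf'; exact ⟨z₀.left, Over.w z₀⟩⟩
  -- the marked point
  let Z₁ : Over X := Over.mk x
  let tW : Z₁ ⟶ T := Over.homMk t ht
  obtain ⟨t', ht'⟩ := (memV Z₁ tW).2 fun W h pc => by
    let u : W ⟶ Zc := Over.homMk pc.left (by
      have e1 : pc.left ≫ C.hom = h.left := by
        rw [Over.w pc]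
        show W.hom ≫ 𝐁 = h.left
        rw [← Over.w h]
        show (h.left ≫ x) ≫ 𝐁 = h.left
        rw [Category.assoc, hx]
        exact Category.comp_id _
      show pc.left ≫ C.hom ≫ x = W.hom
      rw [reassoc_of% e1]
      exact Over.w h)
    refine ⟨u ≫ v, ?_⟩
    rw [Category.assoc, ← hγ0, comp_sm]
    congr 1
    · apply Over.OverMorphism.ext
      have e1 : pc.left ≫ C.hom = h.left := by
        rw [Over.w pc]
        show W.hom ≫ 𝐁 = h.left
        rw [← Over.w h]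
        show (h.left ≫ x) ≫ 𝐁 = h.left
        rw [Category.assoc, hx]
        exact Category.comp_id _
      show pc.left ≫ C.hom ≫ t = h.left ≫ t
      rw [reassoc_of% e1]
  have hpt : t'.left ≫ j'.left = t := congrArg CommaMorphism.left ht'
  have ht'x : t'.left ≫ V'.hom = x := Over.w t'
  obtain ⟨χ', _, f', hf', -⟩ := hP.2.2.2 Sg V' b' t'.left htors ht'x
  obtain ⟨χ₀, _, f₀, -, huniq⟩ := hP.2.2.2 G T b t hb ht
  have hcomp := isPtTorsorHom_comp hf' (φ := s) (g := j') ⟨hj', hpt⟩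
  have hχ : χ' ≫ s = χ := ((huniq (χ' ≫ s) (f' ≫ j') hcomp).1).trans ((huniq χ f hf).1).symm
  haveI : IsIso s.left := by
    rw [IsClosedImmersion.isIso_iff_ker_eq_bot, eq_bot_iff]
    rw [← hker, ← hχ, Over.comp_left]
    exact Scheme.Hom.le_ker_comp _ _
  haveI : IsIso ((Over.forget _).map s) := ‹IsIso s.left›
  haveI : IsIso s := isIso_of_reflects_iso s (Over.forget _)
  -- `H = G`
  haveI : IsIso i := by
    obtain ⟨w, hw⟩ := (memS G (𝟙 G)).1 ⟨inv s, IsIso.inv_hom_id s⟩ (C ⊗ G)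
      ((fst C G ≫ γ)⁻¹ * snd C G * (fst C G ≫ γ)) (fst C G)
    rw [Category.comp_id, show (fst C G ≫ γ) * ((fst C G ≫ γ)⁻¹ * snd C G * (fst C G ≫ γ)) * (fst C G ≫ γ)⁻¹ =
      snd C G by group] at hw
    obtain ⟨g1, g2, g3⟩ := hsnd G
    haveI := g1; haveI := g2; haveI := g3
    haveI : IsIso i.left := isIso_of_fac (snd C G).left i.left w.left (congrArg CommaMorphism.left hw)
    haveI : IsIso ((Over.forget _).map i) := ‹IsIso i.left›
    exact isIso_of_reflects_iso i (Over.forget _)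
  -- `V = T`
  let V2 : Over X := V ⊗ T
  obtain ⟨g, hg⟩ := sm_exists b hb.1 (fst V T ≫ j) (snd V T)
  have hfac : sm c (g ≫ inv i) (fst V T) ≫ j = snd V T := by
    rw [hje, Category.assoc, IsIso.inv_hom_id, Category.comp_id, hg]
  haveI : Flat (snd V T).left := MorphismProperty.pullback_snd (P := @Flat) V.hom T.hom hVflat
  haveI : Surjective (snd V T).left := MorphismProperty.pullback_snd (P := @Surjective) V.hom T.hom hVsurj
  haveI : QuasiCompact (snd V T).left := MorphismProperty.pullback_snd (P := @QuasiCompact) V.hom T.hom hVqc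
  haveI : IsIso j.left := isIso_of_fac (snd V T).left j.left (sm c (g ≫ inv i) (fst V T)).left
    (congrArg CommaMorphism.left hfac)
  haveI : IsIso ((Over.forget _).map j) := ‹IsIso j.left›
  exact isIso_of_reflects_iso j (Over.forget _)

end Groth.L19.Nori
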