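import Groth.Agent.L19.Nori.FibreProd
import Groth.Agent.L08.AffHull.Basic
import Groth.Agent.L00.ProperNorm
import Mathlib.AlgebraicGeometry.Morphisms.Proper

/-!
# Nori-reduced torsors have only constant global functions
-/

set_option autoImplicit false
set_option linter.style.haveILetI false
set_option linter.unusedSectionVars false
set_option backward.isDefEq.respectTransparency.types false
set_option backward.isDefEq.respectTransparency false

universe u

open CategoryTheory MonoidalCategory CartesianMonoidalCategory MonObj AlgebraicGeometry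

namespace Groth.L19.Nori

variable {k : Type u} [Field k] {X : Scheme.{u}} [X.Over (Spec (CommRingCat.of k))]

local notation "𝐁" => (X ↘ Spec (CommRingCat.of k))

/-- A point over `k` of an `X`-scheme is a point over `X`. -/
theorem exists_lift_point {T : Over X} {Z : Over (Spec (CommRingCat.of k))} (z : Z ⟶ mp 𝐁 T) :
    ∃ (Z' : Over X) (z' : Z' ⟶ T) (e : mp 𝐁 Z' ⟶ Z), IsIso e ∧ mpm 𝐁 z' = e ≫ z := by
  let Z' : Over X := Over.mk (z.left ≫ T.hom)
  have hZ : (mp 𝐁 Z').hom = Z.hom := (Category.assoc _ _ _).trans (Over.w z)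
  let e : mp 𝐁 Z' ⟶ Z := Over.homMk (𝟙 Z.left) ((Category.id_comp _).trans hZ.symm)
  let e' : Z ⟶ mp 𝐁 Z' := Over.homMk (𝟙 Z.left) ((Category.id_comp _).trans hZ)
  exact ⟨Z', Over.homMk z.left rfl, e,
    ⟨e', Over.OverMorphism.ext (Category.id_comp _), Over.OverMorphism.ext (Category.id_comp _)⟩,
    Over.OverMorphism.ext (Category.id_comp _).symm⟩

/-- An action of `G ×_k X` on an `X`-scheme is an action of `G` on the underlying `k`-scheme. -/
theorem exists_action_over {G : Over (Spec (CommRingCat.of k))} [GrpObj G] {T : Over X}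
    (a : AlgGrp.Action (Red.bc 𝐁 G) T) :
    ∃ A : AlgGrp.Action G (mp 𝐁 T), ∀ (Z : Over X) (g : mp 𝐁 Z ⟶ G) (z : Z ⟶ T),
      lift g (mpm 𝐁 z) ≫ A.act = mpm 𝐁 (sm a g z) := by
  obtain ⟨Z₀, z₀, e, _, he⟩ := exists_lift_point (T := T) (snd G (mp 𝐁 T))
  let act : G ⊗ mp 𝐁 T ⟶ mp 𝐁 T := inv e ≫ mpm 𝐁 (sm a (e ≫ fst G (mp 𝐁 T)) z₀)
  have key : ∀ (Z : Over X) (g : mp 𝐁 Z ⟶ G) (z : Z ⟶ T), lift g (mpm 𝐁 z) ≫ act = mpm 𝐁 (sm a g z) := by
    intro Z g z
    let c : mp 𝐁 Z ⟶ mp 𝐁 Z₀ := lift g (mpm 𝐁 z) ≫ inv e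
    have hc : c ≫ mpm 𝐁 z₀ = mpm 𝐁 z := by simp [c, he]
    let u : Z ⟶ Z₀ := Over.homMk c.left (by
      have h1 : c.left ≫ z₀.left = z.left := congrArg CommaMorphism.left hc
      show c.left ≫ Z₀.hom = Z.hom
      rw [← Over.w z₀, reassoc_of% h1, Over.w z])
    have hu : mpm 𝐁 u = c := Over.OverMorphism.ext rfl
    have h2 : u ≫ z₀ = z := Over.OverMorphism.ext ((congrArg CommaMorphism.left hc :))
    show lift g (mpm 𝐁 z) ≫ inv e ≫ mpm 𝐁 (sm a (e ≫ fst G (mp 𝐁 T)) z₀) = _
    rw [← Category.assoc, show lift g (mpm 𝐁 z) ≫ inv e = mpm 𝐁 u from hu.symm, mpm, mpm, ← Functor.map_comp,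
      comp_sm, h2, hu]
    congr 2
    simp [c]
  refine ⟨⟨act, ?_, ?_⟩, key⟩
  · apply AlgGrp.Action.hom_ext_lift₂
    intro Z u z
    rw [lift_whiskerRight_assoc, toUnit_unique u (toUnit Z), ← Hom.one_def, leftUnitor_hom, lift_snd]
    obtain ⟨Z', z', e₁, _, he₁⟩ := exists_lift_point z
    rw [← cancel_epi e₁, comp_lift_assoc, MonObj.comp_one, ← he₁, key, sm_one]
  · apply AlgGrp.Action.hom_ext_lift₃
    intro Z g g' z
    rw [lift_whiskerRight_assoc, ← Hom.mul_def, lift_lift_associator_hom_assoc, lift_whiskerLeft_assoc]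
    obtain ⟨Z', z', e₁, _, he₁⟩ := exists_lift_point z
    rw [← cancel_epi e₁, comp_lift_assoc, comp_lift_assoc, MonObj.comp_mul, ← Category.assoc e₁ (lift g' z),
      comp_lift, ← he₁, key, key, key, sm_mul]

variable {x : Spec (CommRingCat.of k) ⟶ X} {G : Over (Spec (CommRingCat.of k))} [GrpObj G] [IsFinite G.hom]
  {T : Over X} {a : AlgGrp.Action (Red.bc (X ↘ Spec (CommRingCat.of k)) G) T}
  {t : Spec (CommRingCat.of k) ⟶ T.left}

/-- A Nori-reduced pointed torsor over a proper, connected, reduced scheme has only constant functions. -/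
theorem bijective_appTop_of_reduced [IsProper (X ↘ Spec (CommRingCat.of k))] [AlgebraicGeometry.IsReduced X]
    [PreconnectedSpace X] (hx : x ≫ 𝐁 = 𝟙 _) (hT : NonAbH1.IsTorsorFor Scheme.fpqcPrecoverage a)
    (ht : t ≫ T.hom = x)
    (hred : ∀ (H : Over (Spec (CommRingCat.of k))) [GrpObj H] (i : H ⟶ G) [IsMonHom i] [IsClosedImmersion i.left]
        (V : Over X) (j : V ⟶ T) [IsClosedImmersion j.left] (b : AlgGrp.Action (Red.bc 𝐁 H) V),
        NonAbH1.IsTorsorFor Scheme.fpqcPrecoverage b →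
        AlgGrp.Action.IsEquivariant b (a.restrict ((Over.pullback 𝐁).map i)) j → IsIso j) :
    Function.Bijective (T.hom ≫ 𝐁).appTop.hom := by
  haveI : IsAffine G.left := isAffine_of_isFinite G
  obtain ⟨haff, _, _, _⟩ := torsor_props hT
  haveI := haff
  haveI : LocallyOfFiniteType (Red.bc 𝐁 G).hom :=
    MorphismProperty.pullback_snd (P := @LocallyOfFiniteType) _ _ inferInstance
  haveI : LocallyOfFiniteType T.hom := Groth.L09.TorsorSch.of_grp @LocallyOfFiniteType a hT inferInstance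
  haveI : UniversallyClosed (Red.bc 𝐁 G).hom :=
    MorphismProperty.pullback_snd (P := @UniversallyClosed) _ _ inferInstance
  haveI : UniversallyClosed T.hom := Groth.L09.TorsorSch.of_grp @UniversallyClosed a hT inferInstance
  haveI : IsProper T.hom := { }
  let Tk := mp 𝐁 T
  haveI hprop : IsProper Tk.hom := inferInstanceAs (IsProper (T.hom ≫ 𝐁))
  haveI : CompactSpace Tk.left := QuasiCompact.compactSpace_of_compactSpace Tk.hom
  haveI : QuasiSeparatedSpace Tk.left := quasiSeparatedSpace_of_quasiSeparated Tk.hom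
  let S := Groth.L08.AffHull.hull Tk
  let ρ : Tk ⟶ S := Groth.L08.AffHull.rho Tk
  haveI : IsIso ρ.left.appTop := inferInstanceAs (IsIso (Groth.L08.AffHull.rho Tk).left.appTop)
  haveI : IsFinite S.hom := by
    rw [HasAffineProperty.iff_of_isAffine (P := @IsFinite)]
    refine ⟨inferInstance, ?_⟩
    have h1 : Tk.hom.appTop = S.hom.appTop ≫ ρ.left.appTop := by rw [← Scheme.Hom.comp_appTop, Over.w ρ]
    have h2 : Tk.hom.appTop.hom.Finite :=
      RingHom.Finite.of_comp_finite (Groth.L00.ProperNorm.finite_toGlobal Tk.hom)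
    have h3 : S.hom.appTop = Tk.hom.appTop ≫ inv ρ.left.appTop := by
      rw [h1, Category.assoc, IsIso.hom_inv_id, Category.comp_id]
    rw [h3, CommRingCat.hom_comp]
    exact (RingHom.Finite.of_surjective _
      (asIso ρ.left.appTop).symm.commRingCatIsoToRingEquiv.surjective).comp h2
  obtain ⟨A, hA⟩ := exists_action_over a
  haveI : IsAffine (G ⊗ S).left := inferInstanceAs (IsAffine (Limits.pullback G.hom S.hom))
  obtain ⟨act, hact⟩ := Groth.L08.AffHull.desc_left Tk (A.act ≫ ρ)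
  let aS : AlgGrp.Action G S :=
    { act := act
      one_act := by
        refine Groth.L08.AffHull.ext_left Tk ?_
        rw [whisker_exchange_assoc, hact, ← Category.assoc, A.one_act, leftUnitor_naturality]
      mul_act := by
        refine Groth.L08.AffHull.ext_left Tk ?_
        rw [whisker_exchange_assoc, hact, ← Category.assoc, A.mul_act]
        simp only [Category.assoc]
        rw [associator_naturality_right_assoc, ← MonoidalCategory.whiskerLeft_comp_assoc, hact,
          MonoidalCategory.whiskerLeft_comp, Category.assoc, hact] }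
  have hψ : ∀ (Z : Over X) (g : mp 𝐁 Z ⟶ G) (z : Z ⟶ T),
      mpm 𝐁 (sm a g z) ≫ ρ = lift g (mpm 𝐁 z ≫ ρ) ≫ aS.act := by
    intro Z g z
    rw [← hA, Category.assoc, ← hact, lift_whiskerLeft_assoc]
  let s₀ : 𝟙_ (Over (Spec (CommRingCat.of k))) ⟶ S := Over.homMk (t ≫ ρ.left) (by
    show (t ≫ ρ.left) ≫ S.hom = 𝟙 _
    rw [Category.assoc, Over.w ρ]
    show t ≫ T.hom ≫ 𝐁 = _
    rw [reassoc_of% ht, hx])
  obtain ⟨H, _, i, _, _, V, v, _, b, hb, hbv, hv, -, -⟩ :=
    exists_stab_torsor aS a ρ hψ hT t (s₀ := s₀) rfl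
  haveI : IsIso v := hred H i V v b hb hbv
  have hρ : ρ = toUnit _ ≫ s₀ := by
    haveI : IsIso (mpm 𝐁 v) := inferInstanceAs (IsIso ((Over.map 𝐁).map v))
    rw [← cancel_epi (mpm 𝐁 v), hv, ← Category.assoc, toUnit_unique (mpm 𝐁 v ≫ toUnit _) (toUnit _)]
  constructor
  · have hsec : t ≫ T.hom ≫ 𝐁 = 𝟙 _ := by rw [reassoc_of% ht, hx]
    intro r r' e
    have h1 := congrArg (fun m => m.appTop.hom r) hsec
    have h2 := congrArg (fun m => m.appTop.hom r') hsec
    simp only [Scheme.Hom.comp_appTop, CommRingCat.hom_comp, RingHom.comp_apply] at h1 h2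
    simp only [Scheme.Hom.comp_appTop, CommRingCat.hom_comp, RingHom.comp_apply] at e
    rw [e] at h1
    simpa using h1.symm.trans h2
  · intro y
    obtain ⟨s, rfl⟩ := (ConcreteCategory.bijective_of_isIso ρ.left.appTop).2 y
    refine ⟨s₀.left.appTop s, ?_⟩
    have e := congrArg (fun m => m.left.appTop.hom s) hρ
    simp only [Over.comp_left, Scheme.Hom.comp_appTop, CommRingCat.hom_comp, RingHom.comp_apply] at e
    simp only [Scheme.Hom.comp_appTop, CommRingCat.hom_comp, RingHom.comp_apply]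
    exact e.symm

/-- A pointed torsor with only constant functions has no proper sub-torsor. -/
theorem isIso_of_bijective_appTop [QuasiCompact (X ↘ Spec (CommRingCat.of k))] (hT : NonAbH1.IsTorsorFor Scheme.fpqcPrecoverage a)
    (hΓ : Function.Bijective (T.hom ≫ 𝐁).appTop.hom)
    {H : Over (Spec (CommRingCat.of k))} [GrpObj H] {i : H ⟶ G} [IsMonHom i] [IsClosedImmersion i.left]
    {V : Over X} (j : V ⟶ T) [IsClosedImmersion j.left] {b : AlgGrp.Action (Red.bc 𝐁 H) V}
    (hb : NonAbH1.IsTorsorFor Scheme.fpqcPrecoverage b)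
    (hj : AlgGrp.Action.IsEquivariant b (a.restrict ((Over.pullback 𝐁).map i)) j) (t : Spec (CommRingCat.of k) ⟶ T.left) :
    IsIso j := by
  haveI : IsAffine G.left := isAffine_of_isFinite G
  haveI : IsFinite H.hom := by rw [← Over.w i]; infer_instance
  haveI : Mono i := Over.mono_of_mono_left i
  have hje := (equivariant_iff a j i).1 hj
  obtain ⟨_, hVflat, hVsurj, hVqc⟩ := torsor_props hb
  -- the orbit image, a finite scheme
  obtain ⟨n, o, sq⟩ := Groth.L08.HomSpace.exists_orbit_pullback i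
  let PS : Over (Spec (CommRingCat.of k)) := Over.mk (CohB1.ProjSpace.toSpec n k)
  haveI : IsProper PS.hom := Groth.L18.PS.isProper_toSpec n k
  haveI : QuasiCompact o.left := by
    haveI : QuasiCompact (o.left ≫ PS.hom) := by rw [Over.w]; infer_instance
    exact QuasiCompact.of_comp o.left PS.hom
  let Y : Over (Spec (CommRingCat.of k)) := Over.mk (o.left.imageι ≫ PS.hom)
  let π : G ⟶ Y := Over.homMk o.left.toImage (by
    show o.left.toImage ≫ o.left.imageι ≫ PS.hom = G.hom
    rw [Scheme.Hom.toImage_imageι_assoc, Over.w o])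
  let ιY : Y ⟶ PS := Over.homMk o.left.imageι rfl
  have hπ : π ≫ ιY = o := Over.OverMorphism.ext (Scheme.Hom.toImage_imageι _)
  haveI : UniversallyClosed (π.left ≫ Y.hom) := by rw [Over.w π]; infer_instance
  haveI : IsSeparated Y.hom := inferInstanceAs (IsSeparated (o.left.imageι ≫ PS.hom))
  haveI : UniversallyClosed π.left := UniversallyClosed.of_comp_of_isSeparated π.left Y.hom
  haveI : Surjective π.left := by
    haveI : IsDominant π.left := inferInstanceAs (IsDominant o.left.toImage)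
    exact ⟨Set.range_eq_univ.1 ((π.left.isClosedMap.isClosed_range).closure_eq.symm.trans
      (dense_iff_closure_eq.1 π.left.denseRange))⟩
  haveI : IsFinite Y.hom := by
    haveI : LocallyOfFiniteType Y.hom := inferInstanceAs (LocallyOfFiniteType (o.left.imageι ≫ PS.hom))
    haveI : QuasiCompact Y.hom := inferInstanceAs (QuasiCompact (o.left.imageι ≫ PS.hom))
    haveI : Finite G.left :=
      Set.finite_univ_iff.mp ((G.hom.finite_preimage_singleton (IsLocalRing.closedPoint k)).subset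
        fun s _ => Subsingleton.elim (α := PrimeSpectrum k) _ _)
    haveI : Finite Y.left := Finite.of_surjective π.left π.left.surjective
    haveI : LocallyQuasiFinite Y.hom :=
      locallyQuasiFinite_iff_finite_preimage_singleton.2 fun _ => Set.toFinite _
    exact IsFinite.of_locallyQuasiFinite Y.hom
  haveI : IsAffine Y.left := isAffine_of_isFinite Y
  -- the invariant map
  obtain ⟨g, hg⟩ := sm_exists a hT.1 (snd T V ≫ j) (fst T V)
  haveI : Flat (fst T V).left := MorphismProperty.pullback_fst (P := @Flat) T.hom V.hom hVflat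
  haveI : Surjective (fst T V).left := MorphismProperty.pullback_fst (P := @Surjective) T.hom V.hom hVsurj
  haveI : QuasiCompact (fst T V).left := MorphismProperty.pullback_fst (P := @QuasiCompact) T.hom V.hom hVqc
  haveI : Flat (mpm 𝐁 (fst T V)).left := inferInstanceAs (Flat (fst T V).left)
  haveI : Surjective (mpm 𝐁 (fst T V)).left := inferInstanceAs (Surjective (fst T V).left)
  haveI : QuasiCompact (mpm 𝐁 (fst T V)).left := inferInstanceAs (QuasiCompact (fst T V).left)
  haveI : Mono ιY := by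
    haveI : Mono ιY.left := inferInstanceAs (Mono o.left.imageι)
    exact Over.mono_of_mono_left ιY
  have horb : ∀ (Z : Over (Spec (CommRingCat.of k))) (g₁ g₂ : Z ⟶ G) (h : Z ⟶ H),
      g₂ = g₁ * (h ≫ i) → g₁ ≫ π = g₂ ≫ π := by
    intro Z g₁ g₂ h e
    rw [← cancel_mono ιY, Category.assoc, Category.assoc, hπ, e]
    have hw := lift g₁ h ≫= sq.w
    rw [lift_fst_assoc] at hw
    rw [hw, ← Category.assoc, ← Category.assoc, lift_whiskerLeft, ← Hom.mul_def]
  obtain ⟨ψ, hψ⟩ := Groth.L27.Torsor.descend (cov_of_ff (mpm 𝐁 (fst T V))) (g ≫ π) fun Zk z₁ z₂ hz => by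
    obtain ⟨Z, u₁, e, _, hu₁⟩ := exists_lift_point z₁
    let u₂ : Z ⟶ T ⊗ V := Over.homMk (e ≫ z₂).left (by
      show (e ≫ z₂).left ≫ (T ⊗ V).hom = Z.hom
      rw [← Over.w (fst T V), ← Over.w u₁, ← Over.w (fst T V)]
      have := congrArg (fun m => (e ≫ m).left ≫ T.hom) hz
      have h1 : u₁.left = (e ≫ z₁).left := congrArg CommaMorphism.left hu₁
      rw [h1]
      simpa [mpm] using this.symm)
    have hu₂ : mpm 𝐁 u₂ = e ≫ z₂ := Over.OverMorphism.ext rfl
    have hfst : u₁ ≫ fst T V = u₂ ≫ fst T V := by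
      apply Over.OverMorphism.ext
      have := congrArg (fun m => (e ≫ m).left) hz
      simp only [← Category.assoc, ← hu₁, ← hu₂] at this
      exact this
    obtain ⟨hh, hhh⟩ := sm_exists b hb.1 (u₁ ≫ snd T V) (u₂ ≫ snd T V)
    have k₁ := congrArg (u₁ ≫ ·) hg
    have k₂ := congrArg (u₂ ≫ ·) hg
    simp only [comp_sm] at k₁ k₂
    have k₃ := congrArg (· ≫ j) hhh
    simp only [hje, Category.assoc] at k₃
    rw [← k₃, ← sm_mul, ← hfst, ← k₁] at k₂
    have k₄ := sm_inj a hT.1 k₂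
    rw [← cancel_epi e, ← Category.assoc e z₁, ← Category.assoc e z₂, ← hu₁, ← hu₂, ← Category.assoc,
      ← Category.assoc]
    exact (horb _ _ _ hh k₄.symm).symm
  -- `ψ` is constant
  haveI : IsIso (T.hom ≫ 𝐁).appTop := (ConcreteCategory.isIso_iff_bijective _).2 hΓ
  let y₀ : 𝟙_ (Over (Spec (CommRingCat.of k))) ⟶ Y := η[G] ≫ π
  obtain ⟨c, hc⟩ : ∃ c : 𝟙_ (Over (Spec (CommRingCat.of k))) ⟶ Y, ψ = toUnit _ ≫ c := by
    obtain ⟨c, hc⟩ := Groth.L08.AffHull.desc_of_isIso_appTop (T.hom ≫ 𝐁) ψ.left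
    refine ⟨Over.homMk c ?_, Over.OverMorphism.ext hc.symm⟩
    show c ≫ Y.hom = 𝟙 _
    refine Groth.L08.AffHull.ext_of_isIso_appTop (T.hom ≫ 𝐁) ?_
    rw [← Category.assoc _ c, hc, Over.w ψ]
    exact (Category.comp_id _).symm
  have hπc : ∀ {W : Over X} (g' : mp 𝐁 W ⟶ G) (w : W ⟶ V), g' ≫ π = toUnit _ ≫ c := by
    intro W g' w
    let u : W ⟶ T ⊗ V := lift (sm a g' (w ≫ j)) w
    have e := congrArg (u ≫ ·) hg
    simp only [comp_sm, u, lift_snd_assoc, lift_fst] at e
    have e' := sm_inj a hT.1 e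
    rw [← e', Category.assoc, ← hψ, hc, ← Category.assoc, ← Category.assoc,
      toUnit_unique ((mpm 𝐁 _ ≫ mpm 𝐁 _) ≫ toUnit _) (toUnit _)]
  -- every point of `G` lies in `H`
  haveI : IsIso i := by
    let W : Over X := Over.mk ((snd G (mp 𝐁 V)).left ≫ V.hom)
    have hW : (mp 𝐁 W).hom = (G ⊗ mp 𝐁 V).hom := by
      rw [← Over.w (snd G (mp 𝐁 V))]
      exact Category.assoc _ _ _
    let q : mp 𝐁 W ⟶ G ⊗ mp 𝐁 V := Over.homMk (𝟙 _) ((Category.id_comp _).trans hW.symm)
    let w : W ⟶ V := Over.homMk (snd G (mp 𝐁 V)).left rfl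
    have h1 := hπc (q ≫ fst G (mp 𝐁 V)) w
    have h2 := hπc (1 : mp 𝐁 W ⟶ G) w
    have h3 : (q ≫ fst G (mp 𝐁 V)) ≫ o = (1 : mp 𝐁 W ⟶ G) ≫ o := by
      rw [← hπ, ← Category.assoc, h1, ← Category.assoc, h2]
    let z := sq.lift (1 : mp 𝐁 W ⟶ G) (q ≫ fst G (mp 𝐁 V)) h3.symm
    have hz : (z ≫ snd G H) ≫ i = q ≫ fst G (mp 𝐁 V) := by
      have e1 : z ≫ fst G H = 1 := sq.lift_fst _ _ _
      have e2 : z ≫ (G ◁ i) ≫ μ[G] = q ≫ fst G (mp 𝐁 V) := sq.lift_snd _ _ _
      rw [← e2, ← _root_.one_mul ((z ≫ snd G H) ≫ i), ← e1, Hom.mul_def, ← Category.assoc z (G ◁ i)]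
      congr 1
      apply CartesianMonoidalCategory.hom_ext <;> simp
    haveI : Flat (mp 𝐁 V).hom := flat_over_field _
    haveI : Surjective (mp 𝐁 V).hom := by
      refine ⟨fun s => ?_⟩
      obtain ⟨v, -⟩ := hVsurj.1 ((t ≫ T.hom) s)
      exact ⟨v, Subsingleton.elim (α := PrimeSpectrum k) _ _⟩
    haveI : QuasiCompact (mp 𝐁 V).hom := by
      haveI := hVqc
      exact inferInstanceAs (QuasiCompact (V.hom ≫ 𝐁))
    haveI : Flat (fst G (mp 𝐁 V)).left := MorphismProperty.pullback_fst (P := @Flat) _ _ inferInstance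
    haveI : Surjective (fst G (mp 𝐁 V)).left := MorphismProperty.pullback_fst (P := @Surjective) _ _ inferInstance
    haveI : QuasiCompact (fst G (mp 𝐁 V)).left :=
      MorphismProperty.pullback_fst (P := @QuasiCompact) _ _ inferInstance
    haveI : IsIso i.left := isIso_of_fac (fst G (mp 𝐁 V)).left i.left (z ≫ snd G H).left (by
      have := congrArg CommaMorphism.left hz
      exact this.trans (Category.id_comp _))
    haveI : IsIso ((Over.forget _).map i) := ‹IsIso i.left›
    exact isIso_of_reflects_iso i (Over.forget _)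
  obtain ⟨g₂, hg₂⟩ := sm_exists a hT.1 (fst V T ≫ j) (snd V T)
  have hfac : sm b (g₂ ≫ inv i) (fst V T) ≫ j = snd V T := by
    rw [hje, Category.assoc, IsIso.inv_hom_id, Category.comp_id, hg₂]
  haveI : Flat (snd V T).left := MorphismProperty.pullback_snd (P := @Flat) V.hom T.hom hVflat
  haveI : Surjective (snd V T).left := MorphismProperty.pullback_snd (P := @Surjective) V.hom T.hom hVsurj
  haveI : QuasiCompact (snd V T).left := MorphismProperty.pullback_snd (P := @QuasiCompact) V.hom T.hom hVqc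
  haveI : IsIso j.left := isIso_of_fac (snd V T).left j.left (sm b (g₂ ≫ inv i) (fst V T)).left
    (congrArg CommaMorphism.left hfac)
  haveI : IsIso ((Over.forget _).map j) := ‹IsIso j.left›
  exact isIso_of_reflects_iso j (Over.forget _)

end Groth.L19.Nori
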